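import Mathlib

/-!
# A lower bound for the norm of integer vectors on the nodes of a defect one block

For integer vectors `c ξ : ZMod p → ℤ` (the coefficients of cyclotomic integers) the sum over the
conjugates of `|s| ^ 2 + p * ∑_{ξ<η} |z ξ - z η| ^ 2` is at least `(p - 1) e ^ 2` when the total is
prime to `p`.
-/

set_option autoImplicit false

namespace Cfsg.Agent.Lib.DefectOne.LatticeBound

open Finset
open scoped ComplexConjugate

variable {p : ℕ} [hp : Fact p.Prime]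

/-- `p ∑ c² - (∑ c)²`. -/
def spread (c : ZMod p → ℤ) : ℤ := p * ∑ j, c j ^ 2 - (∑ j, c j) ^ 2

/-- The Fourier transform of an integer vector. -/
noncomputable def four (c : ZMod p → ℤ) (k : ZMod p) : ℂ :=
  ∑ j, (c j : ℂ) * ZMod.stdAddChar (j * k)

theorem four_sub (c d : ZMod p → ℤ) (k : ZMod p) :
    four (fun j => c j - d j) k = four c k - four d k := by
  simp only [four, Int.cast_sub, sub_mul, sum_sub_distrib]

theorem four_sum {ι : Type*} (A : Finset ι) (c : ι → ZMod p → ℤ) (k : ZMod p) :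
    four (fun j => ∑ i ∈ A, c i j) k = ∑ i ∈ A, four (c i) k := by
  simp only [four, Int.cast_sum, sum_mul]
  rw [sum_comm]

theorem sum_normSq_four (c : ZMod p → ℤ) :
    ∑ k ∈ univ.erase (0 : ZMod p), Complex.normSq (four c k) = (spread c : ℝ) := by
  classical
  apply Complex.ofReal_injective
  have hall : ∑ k : ZMod p, (Complex.normSq (four c k) : ℂ) = (p : ℂ) * ∑ j, (c j : ℂ) ^ 2 := by
    simp only [← Complex.mul_conj, four, map_sum, map_mul, map_intCast, ← AddChar.map_neg_eq_conj,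
      sum_mul_sum]
    rw [sum_comm, mul_sum]
    refine sum_congr rfl fun i _ => ?_
    rw [sum_comm]
    rw [sum_eq_single i]
    · simp only [mul_mul_mul_comm, ← AddChar.map_add_eq_mul, add_neg_cancel, AddChar.map_zero_eq_one,
        mul_one, sum_const, card_univ, ZMod.card, nsmul_eq_mul]
      ring
    · intro j _ hj
      have h : ∀ k : ZMod p, (c i : ℂ) * ZMod.stdAddChar (i * k) *
          ((c j : ℂ) * ZMod.stdAddChar (-(j * k))) =
            (c i : ℂ) * c j * ZMod.stdAddChar (k * (i - j)) := fun k => by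
        rw [mul_mul_mul_comm, ← AddChar.map_add_eq_mul]
        congr 2
        ring
      rw [sum_congr rfl fun k _ => h k, ← mul_sum,
        AddChar.sum_mulShift _ (ZMod.isPrimitive_stdAddChar p),
        if_neg (sub_ne_zero.2 (Ne.symm hj)), Nat.cast_zero, mul_zero]
    · simp
  have h0 : (Complex.normSq (four c 0) : ℂ) = ((∑ j, c j : ℤ) : ℂ) ^ 2 := by
    rw [← Complex.mul_conj]
    simp only [four, mul_zero, AddChar.map_zero_eq_one, mul_one, map_sum, map_intCast, Int.cast_sum]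
    ring
  have hsplit := Finset.add_sum_erase (univ : Finset (ZMod p))
    (fun k => (Complex.normSq (four c k) : ℂ)) (mem_univ 0)
  rw [hall, h0] at hsplit
  push_cast [spread] at hsplit ⊢
  linear_combination hsplit

theorem two_mul_spread (c : ZMod p → ℤ) :
    2 * spread c = ∑ i, ∑ j, (c i - c j) ^ 2 := by
  simp only [spread, sub_sq, sum_add_distrib, sum_sub_distrib, sum_const, card_univ, ZMod.card,
    nsmul_eq_mul, ← mul_sum, ← sum_mul]
  ring

theorem spread_nonneg (c : ZMod p → ℤ) : 0 ≤ spread c := by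
  have := two_mul_spread c
  have : 0 ≤ ∑ i, ∑ j, (c i - c j) ^ 2 := sum_nonneg fun _ _ => sum_nonneg fun _ _ => sq_nonneg _
  linarith

theorem le_spread {c : ZMod p → ℤ} {a b : ZMod p} (h : c a ≠ c b) : (p : ℤ) - 1 ≤ spread c := by
  classical
  set A := univ.filter fun i => c i = c a with hA
  have hA1 : (1 : ℤ) ≤ A.card := by
    exact_mod_cast card_pos.2 ⟨a, by simp [hA]⟩
  have hB1 : (1 : ℤ) ≤ Aᶜ.card := by
    exact_mod_cast card_pos.2 ⟨b, by simp [hA, Ne.symm h]⟩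
  have hAB : (A.card : ℤ) + Aᶜ.card = p := by
    exact_mod_cast (card_add_card_compl A).trans (ZMod.card p)
  have hterm : ∀ i ∈ A, ∀ j ∈ Aᶜ, (1 : ℤ) ≤ (c i - c j) ^ 2 := fun i hi j hj => by
    have hne : c i - c j ≠ 0 := by
      simp only [hA, mem_filter, mem_compl, mem_univ, true_and] at hi hj
      rw [hi, sub_ne_zero]
      exact Ne.symm hj
    have := sq_pos_of_ne_zero hne
    omega
  have h1 : (A.card : ℤ) * Aᶜ.card ≤ ∑ i ∈ A, ∑ j ∈ Aᶜ, (c i - c j) ^ 2 := by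
    calc (A.card : ℤ) * Aᶜ.card = ∑ _i ∈ A, ∑ _j ∈ Aᶜ, (1 : ℤ) := by simp
      _ ≤ _ := sum_le_sum fun i hi => sum_le_sum fun j hj => hterm i hi j hj
  have hswap : ∑ i ∈ Aᶜ, ∑ j ∈ A, (c i - c j) ^ 2 = ∑ i ∈ A, ∑ j ∈ Aᶜ, (c i - c j) ^ 2 := by
    rw [sum_comm]
    exact sum_congr rfl fun i _ => sum_congr rfl fun j _ => by ring
  have h2 : ∑ i ∈ A, ∑ j ∈ Aᶜ, (c i - c j) ^ 2 + ∑ i ∈ Aᶜ, ∑ j ∈ A, (c i - c j) ^ 2 ≤
      ∑ i, ∑ j, (c i - c j) ^ 2 := by
    rw [← sum_add_sum_compl A (fun i => ∑ j, (c i - c j) ^ 2)]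
    exact add_le_add
      (sum_le_sum fun i _ => sum_le_sum_of_subset_of_nonneg (subset_univ _)
        fun _ _ _ => sq_nonneg _)
      (sum_le_sum fun i _ => sum_le_sum_of_subset_of_nonneg (subset_univ _)
        fun _ _ _ => sq_nonneg _)
  have := two_mul_spread c
  nlinarith [mul_nonneg (sub_nonneg.2 hA1) (sub_nonneg.2 hB1)]

variable {ι : Type*} [DecidableEq ι]

theorem lattice_bound (A : Finset ι) (c : ι → ZMod p → ℤ) (hA : A.card + 1 ≤ p)
    (hN : ¬ (p : ℤ) ∣ ∑ ξ ∈ A, ∑ j, c ξ j) :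
    2 * ((p : ℤ) - 1) * (A.card : ℤ) ^ 2 ≤ 2 * spread (fun j => ∑ ξ ∈ A, c ξ j) +
      p * ∑ i ∈ A, ∑ l ∈ A, spread (fun j => c i j - c l j) := by
  classical
  obtain ⟨a, b, hab⟩ : ∃ a b, ∑ ξ ∈ A, c ξ a ≠ ∑ ξ ∈ A, c ξ b := by
    by_contra! h
    refine hN ⟨∑ ξ ∈ A, c ξ 0, ?_⟩
    rw [sum_comm, sum_congr rfl fun j _ => h j 0]
    simp
  obtain ⟨x₀, hx₀⟩ : A.Nonempty := by
    rw [nonempty_iff_ne_empty]
    rintro rfl
    simp at hab
  have hs := le_spread (c := fun j => ∑ ξ ∈ A, c ξ j) hab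
  have hp2 : (2 : ℤ) ≤ p := by exact_mod_cast hp.out.two_le
  by_cases hall : ∀ i ∈ A, ∀ l ∈ A, ∀ j j', c i j - c l j = c i j' - c l j'
  · have hlin : ∀ j j', (∑ ξ ∈ A, c ξ j) - (∑ ξ ∈ A, c ξ j') = A.card * (c x₀ j - c x₀ j') := by
      intro j j'
      rw [← sum_sub_distrib, sum_congr rfl (g := fun _ => c x₀ j - c x₀ j') fun i hi => by
        linarith [hall i hi x₀ hx₀ j j']]
      simp [mul_sub]
    have heq : spread (fun j => ∑ ξ ∈ A, c ξ j) = (A.card : ℤ) ^ 2 * spread (c x₀) := by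
      have h1 := two_mul_spread (fun j => ∑ ξ ∈ A, c ξ j)
      simp only [hlin, mul_pow, ← mul_sum, ← two_mul_spread] at h1
      linarith
    have hne : c x₀ a ≠ c x₀ b := fun h => hab (by
      have := hlin a b; rw [h, sub_self, mul_zero, sub_eq_zero] at this; exact this)
    have h2 := le_spread hne
    have h3 : 0 ≤ ∑ i ∈ A, ∑ l ∈ A, spread (fun j => c i j - c l j) :=
      sum_nonneg fun _ _ => sum_nonneg fun _ _ => spread_nonneg _
    rw [heq]
    nlinarith [sq_nonneg (A.card : ℤ)]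
  · push Not at hall
    obtain ⟨i₀, hi₀, l₀, hl₀, j₁, j₂, hd⟩ := hall
    set Q := A.filter fun w => ∀ j j', c w j - c i₀ j = c w j' - c i₀ j' with hQ
    have hQ1 : (1 : ℤ) ≤ Q.card := by
      exact Nat.one_le_cast.2 <| card_pos.2 ⟨i₀, mem_filter.2 ⟨hi₀, fun j j' => by simp⟩⟩
    have hR1 : (1 : ℤ) ≤ (A \ Q).card := by
      exact Nat.one_le_cast.2 <| card_pos.2 ⟨l₀, mem_sdiff.2 ⟨hl₀, fun h => hd (by
        linarith [(mem_filter.1 h).2 j₁ j₂])⟩⟩
    have hQR : (Q.card : ℤ) + (A \ Q).card = A.card := by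
      exact_mod_cast (add_comm _ _).trans (card_sdiff_add_card_eq_card (filter_subset _ A))
    have hterm : ∀ i ∈ Q, ∀ l ∈ A \ Q, (p : ℤ) - 1 ≤ spread (fun j => c i j - c l j) ∧
        (p : ℤ) - 1 ≤ spread (fun j => c l j - c i j) := by
      intro i hi l hl
      obtain ⟨hlA, hlQ⟩ := mem_sdiff.1 hl
      rw [hQ, mem_filter] at hlQ
      push Not at hlQ
      obtain ⟨j, j', hjj⟩ := hlQ hlA
      have h1 := (mem_filter.1 hi).2 j j'
      exact ⟨le_spread (a := j) (b := j') fun h => hjj (by linarith),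
        le_spread (a := j) (b := j') fun h => hjj (by linarith)⟩
    have h1 : 2 * ((p : ℤ) - 1) * (Q.card * (A \ Q).card) ≤
        ∑ i ∈ A, ∑ l ∈ A, spread (fun j => c i j - c l j) := by
      calc 2 * ((p : ℤ) - 1) * (Q.card * (A \ Q).card)
          = ∑ _i ∈ Q, ∑ _l ∈ A \ Q, ((p : ℤ) - 1) + ∑ _l ∈ A \ Q, ∑ _i ∈ Q, ((p : ℤ) - 1) := by
            simp only [sum_const, nsmul_eq_mul]; ring
        _ ≤ ∑ i ∈ Q, ∑ l ∈ A, spread (fun j => c i j - c l j) +
            ∑ l ∈ A \ Q, ∑ i ∈ A, spread (fun j => c l j - c i j) := add_le_add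
          (sum_le_sum fun i hi => (sum_le_sum fun l hl => (hterm i hi l hl).1).trans
            (sum_le_sum_of_subset_of_nonneg sdiff_subset fun _ _ _ => spread_nonneg _))
          (sum_le_sum fun l hl => (sum_le_sum fun i hi => (hterm i hi l hl).2).trans
            (sum_le_sum_of_subset_of_nonneg (filter_subset _ A) fun _ _ _ => spread_nonneg _))
        _ = _ := by rw [add_comm, sum_sdiff (filter_subset _ A)]
    have h2 : (A.card : ℤ) - 1 ≤ Q.card * (A \ Q).card := by nlinarith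
    have h3 : (A.card : ℤ) + 1 ≤ p := by exact_mod_cast hA
    nlinarith [mul_le_mul_of_nonneg_left h1 (by linarith : (0:ℤ) ≤ (p : ℤ)), hs,
      mul_le_mul_of_nonneg_left h2 (by nlinarith : (0:ℤ) ≤ 2 * ((p : ℤ) - 1) * p),
      mul_le_mul_of_nonneg_left h3 (by nlinarith : (0:ℤ) ≤ 2 * ((p : ℤ) - 1) * ((A.card : ℤ) - 1))]

omit [DecidableEq ι] in
theorem card_mul_sum_normSq (A : Finset ι) (z : ι → ℂ) :
    2 * ((A.card : ℝ) * ∑ i ∈ A, Complex.normSq (z i)) =
      2 * Complex.normSq (∑ i ∈ A, z i) + ∑ i ∈ A, ∑ l ∈ A, Complex.normSq (z i - z l) := by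
  apply Complex.ofReal_injective
  push_cast
  simp only [← Complex.mul_conj, map_sum, map_sub, sub_mul, mul_sub, sum_sub_distrib,
    sum_const, nsmul_eq_mul, ← mul_sum, ← sum_mul]
  ring

theorem fourier_bound (A : Finset ι) (c : ι → ZMod p → ℤ) (hA : A.card + 1 ≤ p)
    (hN : ¬ (p : ℤ) ∣ ∑ ξ ∈ A, ∑ j, c ξ j) :
    ((p : ℝ) - 1) * (A.card : ℝ) ^ 2 ≤
      ∑ k ∈ univ.erase (0 : ZMod p), ((A.card : ℝ) * p * ∑ ξ ∈ A, Complex.normSq (four (c ξ) k) -
        ((p : ℝ) - 1) * Complex.normSq (∑ ξ ∈ A, four (c ξ) k)) := by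
  have h := lattice_bound A c hA hN
  have hk : ∀ k : ZMod p, 2 * ((A.card : ℝ) * p * ∑ ξ ∈ A, Complex.normSq (four (c ξ) k) -
      ((p : ℝ) - 1) * Complex.normSq (∑ ξ ∈ A, four (c ξ) k)) =
      2 * Complex.normSq (four (fun j => ∑ ξ ∈ A, c ξ j) k) +
        p * ∑ i ∈ A, ∑ l ∈ A, Complex.normSq (four (fun j => c i j - c l j) k) := by
    intro k
    have h1 := card_mul_sum_normSq A (fun ξ => four (c ξ) k)
    simp only [four_sub, four_sum]
    linear_combination (p : ℝ) * h1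
  have hsum : 2 * ∑ k ∈ univ.erase (0 : ZMod p),
      ((A.card : ℝ) * p * ∑ ξ ∈ A, Complex.normSq (four (c ξ) k) -
        ((p : ℝ) - 1) * Complex.normSq (∑ ξ ∈ A, four (c ξ) k)) =
      ((2 * spread (fun j => ∑ ξ ∈ A, c ξ j) +
      p * ∑ i ∈ A, ∑ l ∈ A, spread (fun j => c i j - c l j) : ℤ) : ℝ) := by
    rw [mul_sum, sum_congr rfl fun k _ => hk k, sum_add_distrib, ← mul_sum, ← mul_sum,
      sum_normSq_four]
    push_cast
    simp only [← sum_normSq_four]
    congr 2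
    rw [sum_comm]
    exact sum_congr rfl fun i _ => sum_comm
  have h' : ((2 * ((p : ℤ) - 1) * (A.card : ℤ) ^ 2 : ℤ) : ℝ) ≤ _ := Int.cast_le.2 h
  rw [← hsum] at h'
  push_cast at h'
  linarith

end Cfsg.Agent.Lib.DefectOne.LatticeBound
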