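/-
Multiplicities of the irreducible characters of `C(x) = ⟨x⟩ × V` in characters of `G`, and their
Gram matrix.
-/
import Mathlib
import Cfsg.Agent.Lib.DefectOne.Profile
import Cfsg.Agent.Lib.DefectOne.LocalExists

set_option autoImplicit false
set_option linter.unusedSectionVars false
set_option linter.style.haveILetI false

namespace Cfsg.Agent.Lib.DefectOne

open scoped ComplexConjugate
open Cfsg Cfsg.Agent.Lib Finset Subgroup
open Cfsg.Agent.Lib.SmallGroups.PrimeChar (xp fusion mem_fusion one_mem_fusion ne_zero_of_mem_fusion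
  xp_one xp_mul xp_zero xp_add xp_injective centralizer_xp isConj_xp_iff conj_stdAddChar)

variable {G : Type*} [Group G] [Fintype G] {p : ℕ} [hp : Fact p.Prime] (S : Local p G)

noncomputable local instance instFintypeV_DefectOne_Mults : Fintype S.V := Fintype.ofFinite _

/-- The normalizer of `⟨x⟩` as a predicate. -/
def Nrm (g : G) : Prop := g * S.x * g⁻¹ ∈ zpowers S.x

/-- The exponent of the action of `g` on `x`. -/
noncomputable def expo (g : G) : ZMod p := by
  classical exact if h : ∃ u : ZMod p, g * S.x * g⁻¹ = xp p S.x u then h.choose else 1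

theorem expo_spec {g : G} (h : Nrm S g) : g * S.x * g⁻¹ = xp p S.x (expo S g) := by
  obtain ⟨u, hu⟩ := (mem_zpowers_iff_xp S.order_x).mp h
  rw [expo, dif_pos ⟨u, hu.symm⟩]
  exact Exists.choose_spec (p := fun u : ZMod p => g * S.x * g⁻¹ = xp p S.x u) _

theorem conj_xp {g : G} (h : Nrm S g) (j : ZMod p) :
    g * xp p S.x j * g⁻¹ = xp p S.x (expo S g * j) :=
  xp_conj_pow S.x g S.order_x (expo_spec S h) j

theorem expo_eq {g : G} {u : ZMod p} (h : g * S.x * g⁻¹ = xp p S.x u) :
    Nrm S g ∧ expo S g = u := by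
  have h1 : Nrm S g := (mem_zpowers_iff_xp S.order_x).mpr ⟨u, h.symm⟩
  exact ⟨h1, xp_injective S.order_x ((expo_spec S h1).symm.trans h)⟩

theorem expo_mem_fusion {g : G} (h : Nrm S g) : expo S g ∈ fusion p S.x :=
  mem_fusion.mpr (isConj_iff.mpr ⟨g, expo_spec S h⟩)

theorem expo_ne_zero {g : G} (h : Nrm S g) : expo S g ≠ 0 :=
  ne_zero_of_mem_fusion S.order_x (expo_mem_fusion S h)

theorem exists_nrm {u : ZMod p} (hu : u ∈ fusion p S.x) : ∃ g : G, Nrm S g ∧ expo S g = u := by
  obtain ⟨g, hg⟩ := isConj_iff.mp (mem_fusion.mp hu)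
  exact ⟨g, expo_eq S hg⟩

theorem nrm_inv {g : G} (h : Nrm S g) : Nrm S g⁻¹ := by
  have h1 := conj_xp S h (expo S g)⁻¹
  rw [mul_inv_cancel₀ (expo_ne_zero S h), xp_one] at h1
  refine (mem_zpowers_iff_xp S.order_x).mpr ⟨(expo S g)⁻¹, ?_⟩
  conv_rhs => rw [← h1]
  group

theorem conj_mem {g : G} (h : Nrm S g) {v : G} (hv : v ∈ S.V) : g * v * g⁻¹ ∈ S.V := by
  have := S.norm_V g⁻¹ (nrm_inv S h) v hv
  rwa [inv_inv] at this

/-- Conjugation by `g` on `V`. -/
def conjV {g : G} (h : Nrm S g) : S.V ≃* S.V where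
  toFun v := ⟨g * v * g⁻¹, conj_mem S h v.2⟩
  invFun v := ⟨g⁻¹ * v * g, S.norm_V g h v v.2⟩
  left_inv v := Subtype.ext (by group)
  right_inv v := Subtype.ext (by group)
  map_mul' v w := Subtype.ext (by push_cast; group)

/-- The action on the irreducible characters of `V`. -/
noncomputable def conjIrr (g : G) (φ : IrrCharacter S.V) : IrrCharacter S.V := by
  classical exact if h : Nrm S g then Chars.irrCongr (conjV S h) φ else φ

theorem conjIrr_apply {g : G} (h : Nrm S g) (φ : IrrCharacter S.V) (v : S.V) :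
    (conjIrr S g φ : S.V → ℂ) v = (φ : S.V → ℂ) (conjV S h v) := by
  rw [conjIrr, dif_pos h]
  rfl

/-- The indices of the irreducible characters of `⟨x⟩ × V`. -/
abbrev Idx : Type _ := ZMod p × IrrCharacter S.V

/-- The action on the indices. -/
noncomputable def act (g : G) (i : Idx S) : Idx S := (i.1 * expo S g, conjIrr S g i.2)

/-- The irreducible character of `⟨x⟩ × V`. -/
noncomputable def chr (i : Idx S) (a : ZMod p × S.V) : ℂ :=
  ZMod.stdAddChar (i.1 * a.1) * (i.2 : S.V → ℂ) a.2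

/-- The element of the centralizer. -/
def pt (a : ZMod p × S.V) : G := xp p S.x a.1 * a.2

/-- The translation of the parameters by `g`. -/
noncomputable def move {g : G} (h : Nrm S g) (a : ZMod p × S.V) : ZMod p × S.V :=
  (expo S g * a.1, conjV S h a.2)

theorem pt_move {g : G} (h : Nrm S g) (a : ZMod p × S.V) :
    pt S (move S h a) = g * pt S a * g⁻¹ := by
  show xp p S.x (expo S g * a.1) * (g * (a.2 : G) * g⁻¹) = g * (xp p S.x a.1 * a.2) * g⁻¹
  rw [← conj_xp S h]
  group

theorem chr_act {g : G} (h : Nrm S g) (i : Idx S) (a : ZMod p × S.V) :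
    chr S (act S g i) a = chr S i (move S h a) := by
  simp only [chr, act, move, conjIrr_apply S h]
  rw [mul_assoc]

theorem pt_injective : Function.Injective (pt S) := by
  rintro ⟨a, u⟩ ⟨b, w⟩ hab
  have h : xp p S.x a * u = xp p S.x b * w := hab
  have h1 : xp p S.x (a - b) = w * (u : G)⁻¹ := by
    have h2 : xp p S.x b * xp p S.x (a - b) = xp p S.x a := by
      rw [← xp_add S.order_x, add_sub_cancel]
    calc xp p S.x (a - b) = (xp p S.x b)⁻¹ * (xp p S.x a * u) * (u : G)⁻¹ := by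
          rw [← h2]; group
      _ = w * (u : G)⁻¹ := by rw [h]; group
  have h2 : xp p S.x (a - b) = 1 := by
    have hmem : xp p S.x (a - b) ∈ S.V := h1 ▸ mul_mem w.2 (inv_mem u.2)
    have h3 : orderOf (xp p S.x (a - b)) ∣ p := by
      apply orderOf_dvd_of_pow_eq_one
      unfold Cfsg.Agent.Lib.SmallGroups.PrimeChar.xp
      rw [← pow_mul, mul_comm, pow_mul, S.x_pow_p, one_pow]
    rcases (Nat.dvd_prime hp.out).mp h3 with h4 | h4
    · exact orderOf_eq_one_iff.mp h4
    · exact absurd (h4.symm.dvd.trans (Subgroup.orderOf_dvd_natCard _ hmem)) S.coprime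
  have hab' : a = b := sub_eq_zero.mp (xp_injective S.order_x (h2.trans xp_zero.symm))
  subst hab'
  exact Prod.ext rfl (Subtype.ext (mul_left_cancel h))

/-- `p` times `|V|`. -/
noncomputable abbrev cN : ℕ := p * Nat.card S.V

theorem cN_ne_zero : (cN S : ℂ) ≠ 0 :=
  Nat.cast_ne_zero.mpr (mul_ne_zero hp.out.ne_zero Nat.card_pos.ne')

theorem chr_orth (i i' : Idx S) :
    ∑ a : ZMod p × S.V, chr S i a * conj (chr S i' a) = if i = i' then (cN S : ℂ) else 0 := by
  classical
  have h1 : ∑ a : ZMod p × S.V, chr S i a * conj (chr S i' a) =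
      (∑ j : ZMod p, ZMod.stdAddChar (j * (i.1 - i'.1))) *
        ∑ v : S.V, (i.2 : S.V → ℂ) v * conj ((i'.2 : S.V → ℂ) v) := by
    rw [Fintype.sum_prod_type, Finset.sum_mul_sum]
    refine sum_congr rfl fun j _ => sum_congr rfl fun v _ => ?_
    have h2 : ZMod.stdAddChar (i.1 * j) * conj (ZMod.stdAddChar (i'.1 * j)) =
        ZMod.stdAddChar (j * (i.1 - i'.1)) := by
      rw [conj_stdAddChar, ← AddChar.map_add_eq_mul]
      congr 1
      ring
    simp only [chr, map_mul, ← h2]
    ring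
  have h3 : ∑ v : S.V, (i.2 : S.V → ℂ) v * conj ((i'.2 : S.V → ℂ) v) =
      if i.2 = i'.2 then (Nat.card S.V : ℂ) else 0 := by
    have h4 := Chars.classInner_irr i.2 i'.2
    rw [classInner, inv_mul_eq_iff_eq_mul₀ (Nat.cast_ne_zero.mpr Nat.card_pos.ne')] at h4
    rw [h4]
    split_ifs <;> simp
  rw [h1, h3, AddChar.sum_mulShift (i.1 - i'.1) (ZMod.isPrimitive_stdAddChar p), ZMod.card]
  by_cases h : i = i'
  · subst h
    simp
  · rw [if_neg h]
    by_cases hk : i.1 = i'.1
    · rw [if_neg (show i.2 ≠ i'.2 from fun hh => h (Prod.ext hk hh)), mul_zero]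
    · rw [if_neg (sub_ne_zero.mpr hk), Nat.cast_zero, zero_mul]

/-- The multiplicity. -/
noncomputable def mlt (F : G → ℂ) (i : Idx S) : ℂ :=
  (cN S : ℂ)⁻¹ * ∑ a : ZMod p × S.V, F (pt S a) * conj (chr S i a)

theorem mlt_of_expansion {F : G → ℂ} (c : Idx S → ℂ)
    (h : ∀ a, F (pt S a) = ∑ i, c i * chr S i a) (i : Idx S) : mlt S F i = c i := by
  rw [mlt, sum_congr rfl fun a _ => by rw [h a, sum_mul], sum_comm,
    sum_eq_single i (fun i' _ hne => by
      simp only [mul_assoc, ← mul_sum, chr_orth, if_neg hne, mul_zero]) (by simp)]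
  simp only [mul_assoc, ← mul_sum, chr_orth, if_pos]
  field_simp [cN_ne_zero S]
  rw [mul_div_cancel_left₀ _ (cN_ne_zero S)]

theorem mlt_sum {ι : Type*} (s : Finset ι) (c : ι → ℂ) (F : ι → G → ℂ) (i : Idx S) :
    mlt S (∑ t ∈ s, c t • F t) i = ∑ t ∈ s, c t * mlt S (F t) i := by
  simp only [mlt, Finset.sum_apply, Pi.smul_apply, smul_eq_mul, sum_mul]
  rw [sum_comm, mul_sum]
  refine sum_congr rfl fun t _ => ?_
  simp only [mul_assoc, ← mul_sum]
  ring

theorem exists_mlt_nat {F : G → ℂ} (hF : IsCharacter G F) (i : Idx S) :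
    ∃ n : ℕ, mlt S F i = n := by
  let f : Multiplicative (ZMod p) × S.V →* G :=
    { toFun := fun b => xp p S.x b.1.toAdd * b.2
      map_one' := by simp [xp_zero]
      map_mul' := fun a b => by
        simp only [Prod.fst_mul, Prod.snd_mul, toAdd_mul, Subgroup.coe_mul, xp_add S.order_x]
        rw [mul_assoc, ← mul_assoc (xp p S.x (Multiplicative.toAdd b.1)),
          (xp_commute S (Multiplicative.toAdd b.1) a.2.2).eq]
        group }
  let c : Multiplicative (ZMod p) →* ℂ :=
    { toFun := fun b => ZMod.stdAddChar (i.1 * b.toAdd)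
      map_one' := by rw [toAdd_one, mul_zero, AddChar.map_zero_eq_one]
      map_mul' := fun a b => by rw [toAdd_mul, mul_add, AddChar.map_add_eq_mul] }
  obtain ⟨n, hn⟩ := Chars.isCharacter_classInner_nat (Chars.isCharacter_comp f hF)
    (Chars.isCharacter_mul
      (Chars.isCharacter_comp (MonoidHom.fst (Multiplicative (ZMod p)) S.V)
        (Chars.isCharacter_hom c.toHomUnits))
      (Chars.isCharacter_comp (MonoidHom.snd (Multiplicative (ZMod p)) S.V)
        (Chars.irr_isCharacter i.2)))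
  refine ⟨n, hn ▸ ?_⟩
  rw [classInner, mlt, Nat.card_prod, Nat.card_congr (Multiplicative.toAdd (α := ZMod p)),
    Nat.card_zmod]
  congr 1
  exact Fintype.sum_equiv (Equiv.prodCongr Multiplicative.ofAdd (Equiv.refl _)) _ _ fun a => rfl

/-- The multiplicity as a natural number. -/
noncomputable def mN (F : G → ℂ) (i : Idx S) : ℕ := ⌊(mlt S F i).re⌋₊

theorem mN_cast {F : G → ℂ} (hF : IsCharacter G F) (i : Idx S) : (mN S F i : ℂ) = mlt S F i := by
  obtain ⟨n, hn⟩ := exists_mlt_nat S hF i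
  rw [mN, hn, Complex.natCast_re, Nat.floor_natCast]

theorem mlt_act {F : G → ℂ} (hF : IsClassFunction G F) {g : G} (h : Nrm S g) (i : Idx S) :
    mlt S F (act S g i) = mlt S F i := by
  have hbij : Function.Bijective (move S h) := by
    refine Finite.injective_iff_bijective.mp fun a b hab => ?_
    have h1 := congrArg Prod.fst hab
    have h2 := congrArg Prod.snd hab
    exact Prod.ext (mul_left_cancel₀ (expo_ne_zero S h) h1) ((conjV S h).injective h2)
  unfold mlt
  congr 1
  refine Fintype.sum_bijective (move S h) hbij _ _ fun a => ?_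
  rw [pt_move, hF, chr_act S h]

theorem pt_expansion {F : G → ℂ} (hF : IsClassFunction G F) (a : ZMod p × S.V) :
    F (pt S a) = ∑ i, mlt S F i * chr S i a := by
  classical
  obtain ⟨j, v⟩ := a
  have hcl : IsClassFunction S.V (fun w : S.V => F (pt S (j, w))) := by
    intro w t
    show F (xp p S.x j * ((t * w * t⁻¹ : S.V) : G)) = F (xp p S.x j * w)
    rw [← hF (xp p S.x j * w) t]
    congr 1
    push_cast
    rw [← mul_assoc (t : G) (xp p S.x j), ← (xp_commute S j t.2).eq]
    group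
  rw [Chars.isClassFunction_apply_eq_sum_classInner hcl v, Fintype.sum_prod_type, sum_comm]
  refine sum_congr rfl fun φ _ => ?_
  have key : ∑ k : ZMod p, mlt S F (k, φ) * ZMod.stdAddChar (k * j) =
      classInner (fun w : S.V => F (pt S (j, w))) (φ : S.V → ℂ) := by
    have h1 : ∀ k : ZMod p, mlt S F (k, φ) * ZMod.stdAddChar (k * j) = (cN S : ℂ)⁻¹ *
        ∑ l : ZMod p, (∑ w : S.V, F (pt S (l, w)) * conj ((φ : S.V → ℂ) w)) *
          ZMod.stdAddChar (k * (j - l)) := by
      intro k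
      rw [mlt, mul_assoc, Fintype.sum_prod_type, sum_mul]
      congr 1
      refine sum_congr rfl fun l _ => ?_
      rw [sum_mul, sum_mul]
      refine sum_congr rfl fun w _ => ?_
      simp only [chr, map_mul, conj_stdAddChar]
      rw [show k * (j - l) = -(k * l) + k * j by ring, AddChar.map_add_eq_mul]
      ring
    rw [sum_congr rfl fun k _ => h1 k, ← mul_sum, sum_comm]
    simp only [← mul_sum]
    rw [sum_eq_single j (fun l _ hl => by
      rw [AddChar.sum_mulShift (j - l) (ZMod.isPrimitive_stdAddChar p),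
        if_neg (sub_ne_zero.mpr (Ne.symm hl)), Nat.cast_zero, mul_zero]) (by simp),
      AddChar.sum_mulShift (j - j) (ZMod.isPrimitive_stdAddChar p), if_pos (sub_self j), ZMod.card,
      classInner]
    have hp0 : (p : ℂ) ≠ 0 := Nat.cast_ne_zero.mpr hp.out.ne_zero
    have hV : (Nat.card S.V : ℂ) ≠ 0 := Nat.cast_ne_zero.mpr Nat.card_pos.ne'
    simp only [cN, Nat.cast_mul]
    field_simp
  rw [← key, sum_mul]
  exact sum_congr rfl fun k _ => by simp only [chr]; ring

/-- The multiplicity of a character of `⟨x⟩`. -/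
noncomputable def pdeg (F : G → ℂ) (k : ZMod p) : ℂ :=
  ∑ φ : IrrCharacter S.V, mlt S F (k, φ) * (φ : S.V → ℂ) 1

theorem apply_xp_eq {F : G → ℂ} (hF : IsClassFunction G F) (j : ZMod p) :
    F (xp p S.x j) = ∑ k, pdeg S F k * ZMod.stdAddChar (k * j) := by
  have h := pt_expansion S hF (j, 1)
  simp only [pt, OneMemClass.coe_one, mul_one] at h
  rw [h, Fintype.sum_prod_type]
  refine sum_congr rfl fun k _ => ?_
  rw [pdeg, sum_mul]
  exact sum_congr rfl fun φ _ => by simp only [chr]; ring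

theorem apply_one_eq {F : G → ℂ} (hF : IsClassFunction G F) : F 1 = ∑ k, pdeg S F k := by
  have h := apply_xp_eq S hF 0
  simpa [xp_zero] using h

/-- Products of two expansions. -/
theorem mlt_mul_conj {F F' : G → ℂ} (hF : IsClassFunction G F) (hF' : IsClassFunction G F')
    (i : Idx S) :
    mlt S (fun g => F g * conj (F' g)) i = ∑ l : ZMod p, ∑ α : IrrCharacter S.V,
      ∑ β : IrrCharacter S.V, mlt S F (l + i.1, α) * conj (mlt S F' (l, β)) *
        classInner (fun v : S.V => (α : S.V → ℂ) v * conj ((β : S.V → ℂ) v)) (i.2 : S.V → ℂ) := by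
  classical
  refine mlt_of_expansion S (fun i => ∑ l : ZMod p, ∑ α : IrrCharacter S.V,
    ∑ β : IrrCharacter S.V, mlt S F (l + i.1, α) * conj (mlt S F' (l, β)) *
      classInner (fun v : S.V => (α : S.V → ℂ) v * conj ((β : S.V → ℂ) v)) (i.2 : S.V → ℂ))
    (fun a => ?_) i
  obtain ⟨j, v⟩ := a
  rw [pt_expansion S hF, pt_expansion S hF', map_sum, Finset.sum_mul_sum]
  have hcl : ∀ α β : IrrCharacter S.V,
      IsClassFunction S.V (fun w : S.V => (α : S.V → ℂ) w * conj ((β : S.V → ℂ) w)) :=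
    fun α β w t => by simp only [Chars.irr_isClassFunction α w t, Chars.irr_isClassFunction β w t]
  have hrhs : ∀ k : ZMod p, ∑ φ : IrrCharacter S.V, (∑ l : ZMod p, ∑ α : IrrCharacter S.V,
      ∑ β : IrrCharacter S.V, mlt S F (l + k, α) * conj (mlt S F' (l, β)) *
        classInner (fun v : S.V => (α : S.V → ℂ) v * conj ((β : S.V → ℂ) v)) (φ : S.V → ℂ)) *
        chr S (k, φ) (j, v) =
      ∑ l : ZMod p, ∑ α : IrrCharacter S.V, ∑ β : IrrCharacter S.V,
        mlt S F (l + k, α) * conj (mlt S F' (l, β)) * ZMod.stdAddChar (k * j) *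
          ((α : S.V → ℂ) v * conj ((β : S.V → ℂ) v)) := by
    intro k
    simp only [sum_mul]
    rw [sum_comm]
    refine sum_congr rfl fun l _ => ?_
    rw [sum_comm]
    refine sum_congr rfl fun α _ => ?_
    rw [sum_comm]
    refine sum_congr rfl fun β _ => ?_
    rw [Chars.isClassFunction_apply_eq_sum_classInner (hcl α β) v, mul_sum]
    exact sum_congr rfl fun φ _ => by simp only [chr]; ring
  conv_rhs => rw [Fintype.sum_prod_type, sum_congr rfl fun k _ => hrhs k, sum_comm]
  simp only [Fintype.sum_prod_type]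
  conv_lhs =>
    rw [sum_congr rfl fun k _ => sum_comm]
    rw [sum_comm]
  refine sum_congr rfl fun l _ => ?_
  refine Fintype.sum_equiv (Equiv.subRight l) _ _ fun k => ?_
  simp only [Equiv.subRight_apply, add_sub_cancel]
  refine sum_congr rfl fun α _ => sum_congr rfl fun β _ => ?_
  have h2 : ZMod.stdAddChar (k * j) * ZMod.stdAddChar (-(l * j)) =
      ZMod.stdAddChar ((k - l) * j) := by
    rw [← AddChar.map_add_eq_mul]
    congr 1
    ring
  simp only [chr, map_mul, conj_stdAddChar, ← h2]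
  ring

/-- The multiplicity of `(k, 1)` in a product. -/
theorem mlt_mul_conj_one {F F' : G → ℂ} (hF : IsClassFunction G F) (hF' : IsClassFunction G F')
    (k : ZMod p) :
    mlt S (fun g => F g * conj (F' g)) (k, Chars.trivialIrr S.V) =
      ∑ φ : IrrCharacter S.V, ∑ l : ZMod p, mlt S F (l + k, φ) * conj (mlt S F' (l, φ)) := by
  classical
  rw [mlt_mul_conj S hF hF']
  have h : ∀ α β : IrrCharacter S.V,
      classInner (fun v : S.V => (α : S.V → ℂ) v * conj ((β : S.V → ℂ) v))
        (Chars.trivialIrr S.V : S.V → ℂ) = if α = β then 1 else 0 := by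
    intro α β
    rw [← Chars.classInner_irr α β]
    simp only [classInner]
    congr 1
    exact sum_congr rfl fun v _ => by simp
  simp only [h, mul_ite, mul_one, mul_zero, sum_ite_eq, mem_univ, if_true]
  rw [sum_comm]

/-- The multiplicities of the characters of `⟨x⟩` in a product. -/
theorem pdeg_mul_conj {F F' : G → ℂ} (hF : IsClassFunction G F) (hF' : IsClassFunction G F')
    (k : ZMod p) :
    pdeg S (fun g => F g * conj (F' g)) k =
      ∑ l : ZMod p, pdeg S F (l + k) * conj (pdeg S F' l) := by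
  classical
  have hcl : ∀ α β : IrrCharacter S.V,
      IsClassFunction S.V (fun w : S.V => (α : S.V → ℂ) w * conj ((β : S.V → ℂ) w)) :=
    fun α β w t => by simp only [Chars.irr_isClassFunction α w t, Chars.irr_isClassFunction β w t]
  simp only [pdeg, mlt_mul_conj S hF hF', sum_mul, map_sum, map_mul, mul_sum]
  rw [sum_comm]
  refine sum_congr rfl fun l _ => ?_
  rw [sum_comm]
  conv_rhs => rw [sum_comm]
  refine sum_congr rfl fun α _ => ?_
  rw [sum_comm]
  refine sum_congr rfl fun β _ => ?_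
  have h2 := Chars.isClassFunction_apply_eq_sum_classInner (hcl α β) (1 : S.V)
  rw [← sum_congr rfl fun φ _ => (mul_assoc _ _ _).symm, ← mul_sum, ← h2]
  ring

/-- The multiplicities agree with the `V`-averaged ones. -/
theorem profMult_eq_mlt (χ : IrrCharacter G) (k : ZMod p) :
    profMult S χ k = mlt S (χ : G → ℂ) (k, Chars.trivialIrr S.V) := by
  rw [profMult, mlt, Fintype.sum_prod_type]
  simp only [cN, Nat.cast_mul, mul_inv, mul_assoc]
  congr 1
  rw [mul_sum]
  refine sum_congr rfl fun j _ => ?_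
  simp only [profile, avgVal, finsum_eq_sum_of_fintype, chr, conj_stdAddChar, pt,
    Chars.trivialIrr_apply, mul_one, mul_sum, sum_mul]
  exact sum_congr rfl fun v _ => by ring

theorem kv_eq_mN (χ : IrrCharacter G) (k : ZMod p) :
    kv S χ k = (mN S (χ : G → ℂ) (0, Chars.trivialIrr S.V) : ℤ) -
      mN S (χ : G → ℂ) (k, Chars.trivialIrr S.V) := by
  have h : ∀ l, ((exists_profMult_nat S χ l).choose : ℂ) =
      (mN S (χ : G → ℂ) (l, Chars.trivialIrr S.V) : ℂ) := fun l => by
    rw [mN_cast S (Chars.irr_isCharacter χ), ← profMult_eq_mlt]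
    exact (exists_profMult_nat S χ l).choose_spec.symm
  rw [kv, Nat.cast_inj.mp (h 0), Nat.cast_inj.mp (h k)]

/-- The elements of the normalizer. -/
noncomputable def nset : Finset G := by classical exact univ.filter (Nrm S)

theorem mem_nset {g : G} : g ∈ nset S ↔ Nrm S g := by simp [nset]

theorem nrm_of_ne_zero {g : G} {j i : ZMod p} {v w : S.V} (hj : j ≠ 0)
    (h : g * pt S (j, v) * g⁻¹ = pt S (i, w)) : Nrm S g := by
  have h1 := (conj_mem_coset_iff S v.2 hj (g := g) (j := i)).mp ⟨w, w.2, h⟩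
  have h2 := congrArg (· ^ j⁻¹.val) h1
  simp only [conj_pow] at h2
  rw [← xp_mul S.order_x, ← xp_mul S.order_x, mul_inv_cancel₀ hj, xp_one] at h2
  exact (mem_zpowers_iff_xp S.order_x).mpr ⟨_, h2.symm⟩

/-- The Gram formula for combinations of the characters of `⟨x⟩ × V` whose support is moved into
the centralizer only by the normalizer. -/
theorem gram_formula (c d : Idx S → ℤ)
    (hsupp : ∀ a, (∑ i, (c i : ℂ) * chr S i a) ≠ 0 → ∀ g b, g * pt S a * g⁻¹ = pt S b → Nrm S g) :
    (∑ χ : IrrCharacter G, (∑ i, c i * (mN S (χ : G → ℂ) i : ℤ)) *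
        ∑ i, d i * (mN S (χ : G → ℂ) i : ℤ)) * (cN S : ℤ) =
      ∑ g ∈ nset S, ∑ i, c (act S g i) * d i := by
  classical
  apply Int.cast_injective (α := ℂ)
  set α : ZMod p × S.V → ℂ := fun a => ∑ i, (c i : ℂ) * chr S i a
  set β : ZMod p × S.V → ℂ := fun a => ∑ i, (d i : ℂ) * chr S i a
  have hpair : ∀ (e : Idx S → ℤ) (χ : IrrCharacter G),
      ((∑ i, e i * (mN S (χ : G → ℂ) i : ℤ) : ℤ) : ℂ) = (cN S : ℂ)⁻¹ *
        ∑ a, (χ : G → ℂ) (pt S a) * conj (∑ i, (e i : ℂ) * chr S i a) := by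
    intro e χ
    rw [Int.cast_sum]
    simp only [Int.cast_mul, Int.cast_natCast, mN_cast S (Chars.irr_isCharacter χ), mlt, map_sum,
      map_mul, map_intCast, mul_sum]
    rw [sum_comm]
    exact sum_congr rfl fun i _ => sum_congr rfl fun a _ => by ring
  have hreal : ∀ χ : IrrCharacter G, ((∑ i, d i * (mN S (χ : G → ℂ) i : ℤ) : ℤ) : ℂ) =
      (cN S : ℂ)⁻¹ * ∑ b, conj ((χ : G → ℂ) (pt S b)) * β b := by
    intro χ
    rw [← map_intCast (starRingEnd ℂ), hpair d χ]
    simp only [map_mul, map_inv₀, map_natCast, map_sum, Complex.conj_conj, β]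
  rw [Int.cast_mul, Int.cast_sum, sum_congr rfl fun χ _ => by rw [Int.cast_mul, hpair c χ, hreal χ],
    Int.cast_natCast]
  have h1 : ∀ χ : IrrCharacter G,
      ((cN S : ℂ)⁻¹ * ∑ a, (χ : G → ℂ) (pt S a) * conj (α a)) *
        ((cN S : ℂ)⁻¹ * ∑ b, conj ((χ : G → ℂ) (pt S b)) * β b) =
      (cN S : ℂ)⁻¹ * (cN S : ℂ)⁻¹ * ∑ a, ∑ b, conj (α a) * β b *
        ((χ : G → ℂ) (pt S a) * conj ((χ : G → ℂ) (pt S b))) := by
    intro χ
    rw [mul_mul_mul_comm, Finset.sum_mul_sum]
    congr 1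
    exact sum_congr rfl fun a _ => sum_congr rfl fun b _ => by ring
  rw [sum_congr rfl fun χ _ => h1 χ, ← mul_sum, sum_comm,
    sum_congr rfl fun a _ => sum_comm]
  simp only [← mul_sum, column_sum]
  have h2 : ∀ a, ∑ b, conj (α a) * β b *
      ((univ.filter fun g : G => g * pt S a * g⁻¹ = pt S b).card : ℂ) =
      ∑ g ∈ nset S, conj (α a) * (if h : Nrm S g then β (move S h a) else 0) := by
    intro a
    by_cases ha : α a = 0
    · simp [ha]
    simp only [natCast_card_filter, mul_sum, mul_ite, mul_one, mul_zero]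
    rw [sum_comm, ← sum_filter_add_sum_filter_not univ (Nrm S)]
    have hz : ∑ g ∈ univ.filter (fun g => ¬ Nrm S g), ∑ b, (if g * pt S a * g⁻¹ = pt S b then
        conj (α a) * β b else 0) = 0 :=
      sum_eq_zero fun g hg => sum_eq_zero fun b _ => if_neg fun hb =>
        (mem_filter.mp hg).2 (hsupp a ha g b hb)
    rw [hz, add_zero]
    refine sum_congr (by ext g; simp [mem_nset]) fun g hg => ?_
    have hg' : Nrm S g := by simpa [mem_nset] using hg
    rw [sum_eq_single (move S hg' a) (fun b _ hb => if_neg fun he =>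
      hb (pt_injective S (he.symm.trans (pt_move S hg' a).symm))) (by simp),
      if_pos (pt_move S hg' a).symm, dif_pos hg']
  rw [sum_congr rfl fun a _ => h2 a, sum_comm, Int.cast_sum]
  rw [mul_assoc, mul_assoc, mul_comm _ (cN S : ℂ), ← mul_assoc (cN S : ℂ)⁻¹ (cN S : ℂ),
    inv_mul_cancel₀ (cN_ne_zero S), one_mul, mul_sum]
  refine sum_congr rfl fun g hg => ?_
  have hg' : Nrm S g := (mem_nset S).mp hg
  simp only [dif_pos hg', α, β, map_sum, map_mul, map_intCast, sum_mul, mul_sum, ← chr_act S hg']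
  rw [Int.cast_sum, sum_comm]
  refine sum_congr rfl fun i _ => ?_
  rw [sum_comm, sum_eq_single (act S g i)]
  · rw [show (∑ a, (cN S : ℂ)⁻¹ * ((c (act S g i) : ℂ) * conj (chr S (act S g i) a) *
        ((d i : ℂ) * chr S (act S g i) a))) = (cN S : ℂ)⁻¹ * ((c (act S g i) : ℂ) * d i *
          ∑ a, chr S (act S g i) a * conj (chr S (act S g i) a)) by
      simp only [mul_sum]; exact sum_congr rfl fun a _ => by ring,
      chr_orth, if_pos rfl, Int.cast_mul]
    field_simp [cN_ne_zero S]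
    rw [mul_assoc, mul_div_cancel_left₀ _ (cN_ne_zero S)]
  · intro i' _ hne
    rw [show (∑ a, (cN S : ℂ)⁻¹ * ((c i' : ℂ) * conj (chr S i' a) *
        ((d i : ℂ) * chr S (act S g i) a))) = (cN S : ℂ)⁻¹ * ((c i' : ℂ) * d i *
          ∑ a, chr S (act S g i) a * conj (chr S i' a)) by
      simp only [mul_sum]; exact sum_congr rfl fun a _ => by ring,
      chr_orth, if_neg (Ne.symm hne), mul_zero, mul_zero]
  · simp

theorem card_centralizer_param :
    Nat.card (centralizer ({S.x} : Set G)) = cN S := card_centralizer_x S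

theorem conjIrr_centralizer {c : G} (hc : c ∈ centralizer ({S.x} : Set G)) (φ : IrrCharacter S.V) :
    conjIrr S c φ = φ ∧ Nrm S c ∧ expo S c = 1 := by
  have hcx : c * S.x * c⁻¹ = xp p S.x 1 := by
    rw [xp_one, mem_centralizer_singleton_iff.mp hc]; group
  obtain ⟨hn, he⟩ := expo_eq S hcx
  refine ⟨Subtype.ext (funext fun w => ?_), hn, he⟩
  rw [conjIrr_apply S hn]
  obtain ⟨i, v, hv, rfl⟩ := S.factor c (mem_centralizer_singleton_iff.mp hc)
  have h : conjV S hn w = (⟨v, hv⟩ : S.V) * w * (⟨v, hv⟩ : S.V)⁻¹ := Subtype.ext (by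
    show S.x ^ i * v * (w : G) * (S.x ^ i * v)⁻¹ = v * w * v⁻¹
    have h1 : Commute (S.x ^ i) (v * (w : G) * v⁻¹) :=
      (S.commute _ (mul_mem (mul_mem hv w.2) (inv_mem hv))).pow_left i
    calc S.x ^ i * v * (w : G) * (S.x ^ i * v)⁻¹
        = S.x ^ i * (v * (w : G) * v⁻¹) * (S.x ^ i)⁻¹ := by group
      _ = (v * (w : G) * v⁻¹) * S.x ^ i * (S.x ^ i)⁻¹ := by rw [h1.eq]
      _ = _ := by group)
  rw [h, Chars.irr_isClassFunction φ]

theorem expo_mul {g h : G} (hg : Nrm S g) (hh : Nrm S h) :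
    Nrm S (g * h) ∧ expo S (g * h) = expo S g * expo S h := by
  refine expo_eq S ?_
  rw [← conj_xp S hg, ← expo_spec S hh]
  group

theorem act_mul {g h : G} (hg : Nrm S g) (hh : Nrm S h) (i : Idx S) :
    act S (g * h) i = act S h (act S g i) := by
  obtain ⟨hgh, he⟩ := expo_mul S hg hh
  refine Prod.ext ?_ (Subtype.ext (funext fun v => ?_))
  · simp only [act, he]
    ring
  · simp only [act]
    rw [conjIrr_apply S hgh, conjIrr_apply S hh, conjIrr_apply S hg]
    refine congrArg _ (Subtype.ext ?_)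
    show g * h * (v : G) * (g * h)⁻¹ = g * (h * (v : G) * h⁻¹) * g⁻¹
    group

/-- The elements inducing a given action form a coset of the centralizer. -/
theorem card_act_fiber [DecidableEq G] (φ : IrrCharacter S.V) (u : ZMod p) (φ' : IrrCharacter S.V)
    (hex : ∃ g, Nrm S g ∧ expo S g = u ∧ conjIrr S g φ = φ') :
    ((nset S).filter fun g => expo S g = u ∧ conjIrr S g φ = φ').card = cN S := by
  obtain ⟨g₀, hn₀, he₀, hc₀⟩ := hex
  rw [← card_centralizer_param S, ← Nat.card_eq_finsetCard]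
  refine Nat.card_congr
    { toFun := fun g => ⟨g₀⁻¹ * g.1, ?_⟩
      invFun := fun c => ⟨g₀ * c.1, ?_⟩
      left_inv := fun g => Subtype.ext (mul_inv_cancel_left _ _)
      right_inv := fun c => Subtype.ext (inv_mul_cancel_left _ _) }
  · have hg := g.2
    rw [mem_filter, mem_nset] at hg
    rw [mem_centralizer_singleton_iff]
    have h1 : g.1 * S.x * g.1⁻¹ = g₀ * S.x * g₀⁻¹ := by
      rw [expo_spec S hg.1, expo_spec S hn₀, hg.2.1, he₀]
    calc g₀⁻¹ * g.1 * S.x = g₀⁻¹ * (g.1 * S.x * g.1⁻¹) * g.1 := by group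
      _ = g₀⁻¹ * (g₀ * S.x * g₀⁻¹) * g.1 := by rw [h1]
      _ = _ := by group
  · obtain ⟨hcc, hcn, hce⟩ := conjIrr_centralizer S c.2 φ'
    obtain ⟨hm, hme⟩ := expo_mul S hn₀ hcn
    rw [mem_filter, mem_nset]
    refine ⟨hm, by rw [hme, hce, he₀, mul_one], ?_⟩
    have := congrArg Prod.snd (act_mul S hn₀ hcn (0, φ))
    simp only [act] at this
    rw [this, hc₀, hcc]

theorem act_inj_expo {g h : G} (hg : Nrm S g) (hh : Nrm S h) (he : expo S g = expo S h)
    (φ : IrrCharacter S.V) : conjIrr S g φ = conjIrr S h φ := by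
  have hc : g⁻¹ * h ∈ centralizer ({S.x} : Set G) := by
    rw [mem_centralizer_singleton_iff]
    have h1 : g * S.x * g⁻¹ = h * S.x * h⁻¹ := by rw [expo_spec S hg, expo_spec S hh, he]
    calc g⁻¹ * h * S.x = g⁻¹ * (h * S.x * h⁻¹) * h := by group
      _ = g⁻¹ * (g * S.x * g⁻¹) * h := by rw [h1]
      _ = _ := by group
  obtain ⟨hcc, hcn, -⟩ := conjIrr_centralizer S hc (conjIrr S g φ)
  have := congrArg Prod.snd (act_mul S hg hcn (0, φ))
  simp only [act, mul_inv_cancel_left] at this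
  rw [this, hcc]

theorem card_nset : (nset S).card = (fusion p S.x).card * cN S := by
  classical
  rw [card_eq_sum_card_fiberwise (f := expo S) (t := fusion p S.x)
    (fun g hg => expo_mem_fusion S ((mem_nset S).mp hg)), sum_congr rfl (g := fun _ => cN S)
    fun u hu => ?_, sum_const, smul_eq_mul]
  obtain ⟨g, hg, he⟩ := exists_nrm S hu
  have h := card_act_fiber S (Chars.trivialIrr S.V) u (Chars.trivialIrr S.V)
    ⟨g, hg, he, Subtype.ext (funext fun v => by rw [conjIrr_apply S hg]; simp)⟩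
  rw [← h]
  congr 1
  refine filter_congr fun g' hg' => ⟨fun he' => ⟨he', ?_⟩, fun he' => he'.1⟩
  exact Subtype.ext (funext fun v => by rw [conjIrr_apply S ((mem_nset S).mp hg')]; simp)

/-- A field automorphism fixing the roots of unity of order prime to `p` shifts the multiplicities. -/
theorem exists_shift (θ : IrrCharacter G) {μ : ZMod p} (hμ : μ ≠ 0) :
    ∃ θ' : IrrCharacter G, ∀ k φ, mlt S (θ' : G → ℂ) (μ * k, φ) = mlt S (θ : G → ℂ) (k, φ) := by
  classical
  have hco : p.Coprime (Nat.card S.V) := (hp.out.coprime_iff_not_dvd).mpr S.coprime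
  obtain ⟨N, hN1, hN2⟩ := Nat.chineseRemainder hco μ.val 1
  have hμv : ¬ p ∣ μ.val := fun h => hμ (by
    rw [← ZMod.natCast_zmod_val μ, ZMod.natCast_eq_zero_iff]; exact h)
  have hcop : N.Coprime (p * Nat.card S.V) := by
    refine Nat.Coprime.mul_right ?_ ?_
    · rw [Nat.coprime_comm, hp.out.coprime_iff_not_dvd, ← Nat.modEq_zero_iff_dvd]
      intro h
      exact hμv (Nat.modEq_zero_iff_dvd.mp (hN1.symm.trans h))
    · exact (Nat.ModEq.gcd_eq hN2).trans (Nat.gcd_one_left _)
  obtain ⟨σ, hσ⟩ := GaloisChar.exists_ringEquiv_pow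
    (Nat.mul_pos hp.out.pos Nat.card_pos) hcop
  have hσζ : ∀ a : ZMod p, σ (ZMod.stdAddChar a) = ZMod.stdAddChar (μ * a) := by
    intro a
    rw [hσ]
    · rw [← AddChar.map_nsmul_eq_pow, nsmul_eq_mul]
      congr 2
      rw [← ZMod.natCast_zmod_val μ]
      exact (ZMod.natCast_eq_natCast_iff _ _ _).mpr hN1
    · rw [← AddChar.map_nsmul_eq_pow, nsmul_eq_mul, Nat.cast_mul, ZMod.natCast_self, zero_mul,
        zero_mul, AddChar.map_zero_eq_one]
  have hσφ : ∀ (φ : IrrCharacter S.V) (v : S.V), σ ((φ : S.V → ℂ) v) = (φ : S.V → ℂ) v := by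
    intro φ v
    obtain ⟨n, ρ, -, hρ⟩ := φ.2
    obtain ⟨ι, _, m, -, hm, hsum, -⟩ := Chars.exists_roots_sum ρ v
    rw [← hρ, hsum, map_sum]
    refine sum_congr rfl fun i _ => ?_
    have hd : orderOf v ∣ Nat.card S.V := orderOf_dvd_natCard v
    have h1 : m i ^ Nat.card S.V = 1 := by
      obtain ⟨c, hc⟩ := hd
      rw [hc, pow_mul, hm, one_pow]
    rw [hσ _ (by rw [mul_comm, pow_mul, h1, one_pow]), ← Nat.mod_add_div N (Nat.card S.V),
      pow_add, pow_mul, h1, one_pow, mul_one, hN2, ← pow_one (m i), ← pow_mul, one_mul]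
    rcases Nat.lt_or_ge 1 (Nat.card S.V) with hV | hV
    · rw [Nat.mod_eq_of_lt hV]
    · have hV1 : Nat.card S.V = 1 := le_antisymm hV Nat.card_pos
      rw [hV1, pow_one] at h1
      rw [h1, one_pow, one_pow]
  refine ⟨GaloisChar.galIrr (σ : ℂ →+* ℂ) θ, fun k φ => ?_⟩
  have := mlt_of_expansion S (F := (GaloisChar.galIrr (σ : ℂ →+* ℂ) θ : G → ℂ))
    (fun i => mlt S (θ : G → ℂ) (μ⁻¹ * i.1, i.2)) (fun a => ?_) (μ * k, φ)
  · rw [this, ← mul_assoc, inv_mul_cancel₀ hμ, one_mul]
  · show σ ((θ : G → ℂ) (pt S a)) = _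
    rw [pt_expansion S (Chars.irr_isClassFunction θ), map_sum]
    refine Fintype.sum_equiv (Equiv.prodCongr (Equiv.mulLeft₀ μ hμ) (Equiv.refl _)) _ _ fun i => ?_
    show _ = mlt S (θ : G → ℂ) (μ⁻¹ * (μ * i.1), i.2) * chr S (μ * i.1, i.2) a
    rw [← mul_assoc μ⁻¹, inv_mul_cancel₀ hμ, one_mul, ← mN_cast S (Chars.irr_isCharacter θ)]
    simp only [chr, map_mul, map_natCast, hσζ, hσφ, mul_assoc]

end Cfsg.Agent.Lib.DefectOne
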