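/-
A character whose averaged value on `x ^ j V` is a sign is congruent to its degree on `V`.
-/
import Mathlib
import Cfsg.Agent.Lib.DefectOne.Mults
import Cfsg.Agent.Lib.Glauberman.Residue
import Cfsg.Agent.Lib.Blocks.ClassAlgebra

set_option autoImplicit false
set_option linter.unusedSectionVars false
set_option linter.style.haveILetI false

namespace Cfsg.Agent.Lib.DefectOne

open scoped ComplexConjugate
open Cfsg Cfsg.Agent.Lib Finset Subgroup
open Cfsg.Agent.Lib.Glauberman (red red_add red_mul red_sum red_natCast red_one red_zero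
  sum_eq_sum_fixed natCast_red_eq_zero)
open Cfsg.Agent.Lib.Blocks (isIntegral_mem_localRing Residue localRing)
open Cfsg.Agent.Lib.SmallGroups.PrimeChar (xp xp_zero xp_mul xp_add xp_one xp_injective)

variable {G : Type*} [Group G] [Fintype G] {p : ℕ} [hp : Fact p.Prime] (S : Local p G)

noncomputable local instance instFintypeV_DefectOne_Congr : Fintype S.V := Fintype.ofFinite _

theorem pt_mem_centralizer (a : ZMod p × S.V) : Commute (pt S a) S.x :=
  (((Commute.refl S.x).pow_left _).mul_left (S.commute _ a.2.2).symm)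

theorem mem_V_of_regular {c : G} (hc : Commute c S.x) (hreg : ¬ p ∣ orderOf c) : c ∈ S.V := by
  obtain ⟨i, v, hv, rfl⟩ := S.factor c hc
  have hcom : Commute (S.x ^ i) v := (S.commute v hv).pow_left i
  have h1 := pow_orderOf_eq_one (S.x ^ i * v)
  rw [hcom.mul_pow, ← pow_mul] at h1
  set m := orderOf (S.x ^ i * v)
  have h2 : pt S ((i * m : ℕ), ⟨v ^ m, pow_mem hv m⟩) = pt S (0, 1) := by
    simp only [pt, xp_zero, OneMemClass.coe_one, mul_one]
    rw [Cfsg.Agent.Lib.SmallGroups.PrimeChar.xp, ZMod.val_natCast, S.x_pow_mod]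
    exact h1
  have h3 := congrArg Prod.fst (pt_injective S h2)
  simp only [ZMod.natCast_eq_zero_iff] at h3
  have h4 : p ∣ i := ((Nat.Prime.dvd_mul hp.out).mp h3).resolve_right hreg
  obtain ⟨k, rfl⟩ := h4
  rw [pow_mul, S.x_pow_p, one_pow, one_mul]
  exact hv

theorem not_dvd_index_of_mem (hidx : ¬ p ∣ (centralizer ({S.x} : Set G)).index)
    {H : Subgroup G} (hx : S.x ∈ H) : ¬ p ∣ H.index := by
  intro h
  have h1 : p ∣ Nat.card H := S.order_x ▸ Subgroup.orderOf_dvd_natCard _ hx
  have h2 := Nat.mul_dvd_mul h1 h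
  rw [Subgroup.card_mul_index, ← (centralizer ({S.x} : Set G)).card_mul_index,
    card_centralizer_x S, mul_assoc, Nat.mul_dvd_mul_iff_left hp.out.pos] at h2
  rcases (Nat.Prime.dvd_mul hp.out).mp h2 with h3 | h3
  · exact S.coprime h3
  · exact hidx h3

open scoped Classical in
/-- The central character identity. -/
theorem centralChar_mul (ψ : IrrCharacter G) (v y : G) :
    centralChar (ψ : G → ℂ) v * (ψ : G → ℂ) y =
      ∑ κ : {g : G // IsConj v g}, (ψ : G → ℂ) ((κ : G) * y) := by
  classical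
  obtain ⟨n, ρ, hρ, hχ⟩ := ψ.2
  haveI := hρ
  let T : Module.End ℂ (Fin n → ℂ) := ∑ κ : {g : G // IsConj v g}, ρ κ
  have hT : ∀ h : G, T ∘ₗ ρ h = ρ h ∘ₗ T := by
    intro h
    show T * ρ h = ρ h * T
    simp only [T, sum_mul, mul_sum, ← map_mul]
    let e : {g : G // IsConj v g} ≃ {g : G // IsConj v g} :=
      { toFun := fun κ => ⟨h⁻¹ * κ * h, κ.2.trans (isConj_iff.mpr ⟨h⁻¹, by simp⟩)⟩
        invFun := fun κ => ⟨h * κ * h⁻¹, κ.2.trans (isConj_iff.mpr ⟨h, rfl⟩)⟩
        left_inv := fun κ => Subtype.ext (by group)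
        right_inv := fun κ => Subtype.ext (by group) }
    refine Fintype.sum_equiv e _ _ fun κ => congrArg ρ ?_
    show (κ : G) * h = h * (h⁻¹ * κ * h)
    group
  obtain ⟨c, hc⟩ := Chars.exists_scalar_of_commute ρ T hT
  have hn : (ψ : G → ℂ) 1 ≠ 0 := Chars.irr_apply_one_ne_zero ψ
  have htr : ∀ z : G, LinearMap.trace ℂ _ (T * ρ z) = ∑ κ : {g : G // IsConj v g},
      (ψ : G → ℂ) ((κ : G) * z) := by
    intro z
    simp only [T, sum_mul, map_sum, ← map_mul]
    exact sum_congr rfl fun κ _ => congrFun hχ _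
  have h1 := htr 1
  rw [hc, smul_mul_assoc, one_mul, map_smul, smul_eq_mul, show LinearMap.trace ℂ _ (ρ 1) = (ψ : G → ℂ) 1
    from congrFun hχ 1, sum_congr rfl (g := fun _ => (ψ : G → ℂ) v) fun κ _ => by
      rw [mul_one]; exact Chars.isClassFunction_apply_eq (Chars.irr_isClassFunction ψ) κ.2,
    sum_const, card_univ, ← Nat.card_eq_fintype_card, Chars.card_conjClass_eq_index,
    nsmul_eq_mul] at h1
  rw [← htr y, hc, smul_mul_assoc, one_mul, map_smul, smul_eq_mul,
    show LinearMap.trace ℂ _ (ρ y) = (ψ : G → ℂ) y from congrFun hχ y, centralChar, ← h1,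
    mul_div_assoc, div_self hn, mul_one]

variable {M : Ideal AlgInt} [M.IsPrime]

theorem red_stdAddChar (hM : IsPModular p M) (a : ZMod p) :
    red M (ZMod.stdAddChar a : ℂ) = 1 ∧ IsIntegral ℤ (ZMod.stdAddChar a : ℂ) := by
  have hpow : (ZMod.stdAddChar a : ℂ) ^ p = 1 := by
    rw [← AddChar.map_nsmul_eq_pow, nsmul_eq_mul, ZMod.natCast_self, zero_mul,
      AddChar.map_zero_eq_one]
  have hint : IsIntegral ℤ (ZMod.stdAddChar a : ℂ) :=
    IsIntegral.of_pow hp.out.pos (by rw [hpow]; exact isIntegral_one)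
  refine ⟨?_, hint⟩
  haveI : CharP (Residue M) p := ⟨natCast_red_eq_zero hM⟩
  have h : ∀ n : ℕ, red M ((ZMod.stdAddChar a : ℂ) ^ n) = red M (ZMod.stdAddChar a : ℂ) ^ n := by
    intro n
    induction n with
    | zero => simp
    | succ n ih =>
      rw [pow_succ, pow_succ, red_mul (pow_mem (isIntegral_mem_localRing hint) n)
        (isIntegral_mem_localRing hint), ih]
  have h1 := h p
  rw [hpow, red_one] at h1
  have h2 : (red M (ZMod.stdAddChar a : ℂ) - 1) ^ p = 0 := by
    rw [sub_pow_char, ← h1, one_pow, sub_self]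
  exact sub_eq_zero.mp (eq_zero_of_pow_eq_zero h2)

theorem red_pt (hM : IsPModular p M) (ψ : IrrCharacter G) (j : ZMod p) (w : S.V) :
    red M ((ψ : G → ℂ) (pt S (j, w))) = red M ((ψ : G → ℂ) (w : G)) := by
  have h : ∀ l, red M ((ψ : G → ℂ) (pt S (l, w))) =
      ∑ i : Idx S, (mN S (ψ : G → ℂ) i : Residue M) * red M ((i.2 : S.V → ℂ) w) := by
    intro l
    have hi : ∀ i : Idx S, chr S i (l, w) ∈ localRing M := fun i => mul_mem
      (isIntegral_mem_localRing (red_stdAddChar hM _).2)
      (isIntegral_mem_localRing (Chars.irr_isIntegral i.2 w))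
    rw [pt_expansion S (Chars.irr_isClassFunction ψ),
      red_sum univ (fun i _ => mul_mem (by rw [← mN_cast S (Chars.irr_isCharacter ψ)]
                                           exact natCast_mem _ _) (hi i))]
    refine sum_congr rfl fun i _ => ?_
    rw [← mN_cast S (Chars.irr_isCharacter ψ), red_mul (natCast_mem _ _) (hi i), red_natCast]
    congr 1
    show red M (ZMod.stdAddChar (i.1 * l) * (i.2 : S.V → ℂ) w) = _
    rw [red_mul (isIntegral_mem_localRing (red_stdAddChar hM _).2)
      (isIntegral_mem_localRing (Chars.irr_isIntegral i.2 w)), (red_stdAddChar hM _).1, one_mul]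
  rw [h j, ← h 0]
  simp [pt, xp_zero]

/-- The multiplicities of a nontrivial character of `V` in such a character sum to a multiple of
`p`. -/
theorem dvd_sum_mN (hidx : ¬ p ∣ (centralizer ({S.x} : Set G)).index) (hM : IsPModular p M)
    (ψ : IrrCharacter G) {δ : ℤ} (hδ : δ = 1 ∨ δ = -1)
    (hprof : ∀ j : ZMod p, j ≠ 0 → profile S ψ j = (δ : ℂ))
    {φ : IrrCharacter S.V} (hφ : φ ≠ Chars.trivialIrr S.V) :
    p ∣ ∑ k, mN S (ψ : G → ℂ) (k, φ) := by
  classical
  haveI : CharP (Residue M) p := ⟨natCast_red_eq_zero hM⟩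
  have hL : ∀ g, (ψ : G → ℂ) g ∈ localRing M := fun g =>
    isIntegral_mem_localRing (Chars.irr_isIntegral ψ g)
  have hVp : ((Nat.card S.V : ℕ) : Residue M) ≠ 0 := fun h =>
    S.coprime ((natCast_red_eq_zero hM _).mp h)
  set d : Residue M := red M (δ : ℂ) with hd
  have hd0 : d ≠ 0 := by
    rcases hδ with rfl | rfl
    · simp [hd]
    · intro h
      have h' := red_add (M := M) (a := ((-1 : ℤ) : ℂ)) (b := 1)
        (intCast_mem _ _) (one_mem _)
      rw [← hd, h, red_one, zero_add] at h'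
      simp at h'
  -- sums over a coset
  have hsumj : ∀ j : ZMod p, j ≠ 0 →
      ∑ w : S.V, red M ((ψ : G → ℂ) (pt S (j, w))) = (Nat.card S.V : Residue M) * d := by
    intro j hj
    rw [← red_sum univ (fun w _ => hL _), hd, ← red_natCast (M := M),
      ← red_mul (natCast_mem _ _) (intCast_mem _ _)]
    congr 1
    have h := hprof j hj
    rw [profile, avgVal, finsum_eq_sum_of_fintype,
      inv_mul_eq_iff_eq_mul₀ (Nat.cast_ne_zero.mpr Nat.card_pos.ne')] at h
    exact h
  -- the values on `V`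
  have hval : ∀ v : S.V, red M ((ψ : G → ℂ) (v : G)) = red M ((ψ : G → ℂ) 1) := by
    intro v
    set K := {g : G // IsConj (v : G) g}
    let σ : Equiv.Perm K :=
      { toFun := fun κ => ⟨S.x * κ * S.x⁻¹, κ.2.trans (isConj_iff.mpr ⟨S.x, rfl⟩)⟩
        invFun := fun κ => ⟨S.x⁻¹ * κ * S.x, κ.2.trans (isConj_iff.mpr ⟨S.x⁻¹, by simp⟩)⟩
        left_inv := fun κ => Subtype.ext (by group)
        right_inv := fun κ => Subtype.ext (by group) }
    have hσn : ∀ n : ℕ, ∀ κ : K, ((σ ^ n) κ : G) = S.x ^ n * κ * (S.x ^ n)⁻¹ := by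
      intro n
      induction n with
      | zero => simp
      | succ n ih =>
        intro κ
        rw [pow_succ', Equiv.Perm.mul_apply]
        show S.x * ((σ ^ n) κ : G) * S.x⁻¹ = _
        rw [ih, pow_succ']
        group
    have hσp : σ ^ p = 1 := Equiv.ext fun κ => Subtype.ext (by
      rw [hσn, S.x_pow_p]; simp)
    set F := univ.filter fun κ : K => σ κ = κ
    have hF : ∀ κ ∈ F, ((κ : G)) ∈ S.V := by
      intro κ hκ
      have h1 : S.x * (κ : G) * S.x⁻¹ = κ := congrArg Subtype.val (mem_filter.mp hκ).2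
      refine mem_V_of_regular S (mul_inv_eq_iff_eq_mul.mp h1).symm ?_
      obtain ⟨c, hc⟩ := isConj_iff.mp κ.2
      rw [← hc, show c * (v : G) * c⁻¹ = MulAut.conj c (v : G) from rfl, MulEquiv.orderOf_eq]
      exact fun h => S.coprime (h.trans (Subgroup.orderOf_dvd_natCard _ v.2))
    have hcard : (Nat.card K : Residue M) = (F.card : Residue M) := by
      have := sum_eq_sum_fixed p σ hσp (fun _ => (1 : Residue M)) fun _ => rfl
      simpa [Nat.card_eq_fintype_card] using this
    set ω := centralChar (ψ : G → ℂ) (v : G)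
    have hω : ω ∈ localRing M := isIntegral_mem_localRing (Blocks.centralChar_isIntegral ψ _)
    have hsum : red M ω * ((Nat.card S.V : Residue M) * d) =
        (F.card : Residue M) * ((Nat.card S.V : Residue M) * d) := by
      conv_lhs => rw [← hsumj 1 one_ne_zero, mul_sum]
      have h1 : ∀ w : S.V, red M ω * red M ((ψ : G → ℂ) (pt S (1, w))) =
          ∑ κ ∈ F, red M ((ψ : G → ℂ) ((κ : G) * pt S (1, w))) := by
        intro w
        rw [← red_mul hω (hL _), centralChar_mul, red_sum univ (fun κ _ => hL _)]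
        refine sum_eq_sum_fixed p σ hσp _ fun κ => congrArg (red M) ?_
        show (ψ : G → ℂ) (S.x * κ * S.x⁻¹ * pt S (1, w)) = _
        have h2 : S.x⁻¹ * pt S (1, w) = pt S (1, w) * S.x⁻¹ :=
          (pt_mem_centralizer S (1, w)).inv_right.symm.eq
        rw [mul_assoc _ S.x⁻¹, h2, ← mul_assoc,
          show S.x * (κ : G) * pt S (1, w) = S.x * ((κ : G) * pt S (1, w)) by group]
        exact Chars.irr_isClassFunction ψ _ _
      rw [sum_congr rfl fun w _ => h1 w, sum_comm, sum_congr rfl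
        (g := fun _ => (Nat.card S.V : Residue M) * d) fun κ hκ => ?_, sum_const, nsmul_eq_mul]
      refine (Fintype.sum_equiv (Equiv.mulLeft (⟨(κ : G), hF κ hκ⟩ : S.V)) _
        (fun w => red M ((ψ : G → ℂ) (pt S (1, w)))) fun w => ?_).trans (hsumj 1 one_ne_zero)
      show red M ((ψ : G → ℂ) ((κ : G) * (xp p S.x 1 * w))) =
        red M ((ψ : G → ℂ) (xp p S.x 1 * ((κ : G) * w)))
      rw [← mul_assoc, ← (xp_commute S 1 (hF κ hκ)).eq, mul_assoc]
    have h3 : red M ω = (F.card : Residue M) := mul_right_cancel₀ (mul_ne_zero hVp hd0) hsum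
    have hne : (Nat.card K : Residue M) ≠ 0 := fun h => by
      rw [natCast_red_eq_zero hM, Chars.card_conjClass_eq_index] at h
      exact not_dvd_index_of_mem S hidx
        (mem_centralizer_singleton_iff.mpr (S.commute v v.2).eq) h
    have h4 : ω * (ψ : G → ℂ) 1 = (Nat.card K : ℂ) * (ψ : G → ℂ) (v : G) := by
      rw [Chars.card_conjClass_eq_index]
      exact div_mul_cancel₀ _ (Chars.irr_apply_one_ne_zero ψ)
    have h5 := congrArg (red M) h4
    rw [red_mul hω (hL 1), red_mul (natCast_mem _ _) (hL _), red_natCast, h3, ← hcard] at h5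
    exact (mul_left_cancel₀ hne h5).symm
  have h1 : red M ((ψ : G → ℂ) 1) = d := by
    have h := hsumj 1 one_ne_zero
    rw [sum_congr rfl (g := fun _ => red M ((ψ : G → ℂ) 1)) fun w _ => by rw [red_pt S hM, hval],
      sum_const, card_univ, ← Nat.card_eq_fintype_card, nsmul_eq_mul] at h
    exact mul_left_cancel₀ hVp h
  -- the multiplicity
  have hm : ((Nat.card S.V * ∑ k, mN S (ψ : G → ℂ) (k, φ) : ℕ) : ℂ) =
      ∑ w : S.V, (ψ : G → ℂ) (w : G) * conj ((φ : S.V → ℂ) w) := by
    have h := fun w : S.V => pt_expansion S (Chars.irr_isClassFunction ψ) (0, w)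
    simp only [pt, xp_zero, one_mul] at h
    have hor : ∀ φ' : IrrCharacter S.V, ∑ w : S.V, (φ' : S.V → ℂ) w * conj ((φ : S.V → ℂ) w) =
        if φ' = φ then (Nat.card S.V : ℂ) else 0 := by
      intro φ'
      have h2 := Chars.classInner_irr φ' φ
      rw [classInner, inv_mul_eq_iff_eq_mul₀ (Nat.cast_ne_zero.mpr Nat.card_pos.ne')] at h2
      rw [h2]
      split_ifs <;> simp
    conv_rhs => rw [sum_congr rfl fun w _ => by rw [h w, sum_mul], sum_comm]
    simp only [chr, mul_zero, AddChar.map_zero_eq_one, one_mul, mul_assoc, ← mul_sum, hor,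
      Fintype.sum_prod_type, mul_ite]
    simp only [sum_ite_eq', mem_univ, if_true, Nat.cast_mul, Nat.cast_sum, mul_sum]
    exact sum_congr rfl fun k _ => by rw [mN_cast S (Chars.irr_isCharacter ψ), mul_comm]
  have hφL : ∀ w, conj ((φ : S.V → ℂ) w) ∈ localRing M := fun w =>
    isIntegral_mem_localRing (Chars.isIntegral_conj (Chars.irr_isIntegral φ w))
  have h2 := congrArg (red M) hm
  rw [red_natCast, red_sum univ (fun w _ => mul_mem (hL _) (hφL w)),
    sum_congr rfl (g := fun w => d * red M (conj ((φ : S.V → ℂ) w))) fun w _ => by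
      rw [red_mul (hL _) (hφL w), hval, h1],
    ← mul_sum, ← red_sum univ (fun w _ => hφL w)] at h2
  have h3 : ∑ w : S.V, conj ((φ : S.V → ℂ) w) = 0 := by
    have h4 := Chars.classInner_irr_of_ne (Ne.symm hφ)
    rw [classInner, inv_mul_eq_iff_eq_mul₀ (Nat.cast_ne_zero.mpr Nat.card_pos.ne'), mul_zero] at h4
    simpa using h4
  rw [h3, red_zero, mul_zero, natCast_red_eq_zero hM] at h2
  exact ((Nat.Prime.dvd_mul hp.out).mp h2).resolve_left S.coprime

end Cfsg.Agent.Lib.DefectOne
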