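/-
Consequences of the profile structure for the full multiplicities on `C(x) = ⟨x⟩ × V`.
-/
import Mathlib
import Cfsg.Agent.Lib.DefectOne.Structure
import Cfsg.Agent.Lib.DefectOne.Congr
import Cfsg.Agent.Lib.Chars.PResidualDegree

set_option autoImplicit false
set_option linter.unusedSectionVars false
set_option linter.style.haveILetI false

namespace Cfsg.Agent.Lib.DefectOne

open scoped ComplexConjugate
open Cfsg Cfsg.Agent.Lib Finset Subgroup
open Cfsg.Agent.Lib.SmallGroups.PrimeChar (xp fusion mem_fusion one_mem_fusion ne_zero_of_mem_fusion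
  mul_mem_fusion inv_mem_fusion xp_one xp_mul xp_zero xp_add xp_injective conj_stdAddChar)

variable {G : Type*} [Group G] [Fintype G] {p : ℕ} [hp : Fact p.Prime] (S : Local p G)

noncomputable local instance instFintypeV_DefectOne_Sharp : Fintype S.V := Fintype.ofFinite _

/-- The sum giving `kv` for a profile that is a sum of characters. -/
theorem sum_shift_eq {a k : ZMod p} :
    ∑ j : ZMod p, ZMod.stdAddChar (a * j) * (1 - ZMod.stdAddChar (-(k * j))) =
      (if a = 0 then (p : ℂ) else 0) - if a = k then (p : ℂ) else 0 := by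
  classical
  have hs : ∀ c : ZMod p, ∑ j : ZMod p, ZMod.stdAddChar (c * j) = if c = 0 then (p : ℂ) else 0 := by
    intro c
    have h2 := AddChar.sum_mulShift c (ZMod.isPrimitive_stdAddChar p)
    rw [sum_congr rfl fun j _ => by rw [mul_comm c j], h2, ZMod.card]
    split_ifs <;> simp
  have h : ∀ j : ZMod p, ZMod.stdAddChar (a * j) * (1 - ZMod.stdAddChar (-(k * j))) =
      ZMod.stdAddChar (a * j) - ZMod.stdAddChar ((a - k) * j) := by
    intro j
    rw [mul_sub, mul_one, ← AddChar.map_add_eq_mul]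
    congr 2
    ring
  rw [sum_congr rfl fun j _ => h j, sum_sub_distrib, hs, hs]
  simp only [sub_eq_zero]

theorem kv_of_const {ψ : IrrCharacter G} {c : ℤ}
    (h : ∀ j : ZMod p, j ≠ 0 → profile S ψ j = (c : ℂ)) {k : ZMod p} (hk : k ≠ 0) :
    kv S ψ k = c := by
  classical
  apply Int.cast_injective (α := ℂ)
  rw [kv_cast, sum_congr rfl (g := fun j =>
    (c : ℂ) * (ZMod.stdAddChar ((0 : ZMod p) * j) * (1 - ZMod.stdAddChar (-(k * j))))) fun j _ => ?_,
    ← mul_sum, sum_shift_eq, if_pos rfl, if_neg hk.symm, sub_zero]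
  · have hp0 : (p : ℂ) ≠ 0 := Nat.cast_ne_zero.mpr hp.out.ne_zero
    field_simp
  · by_cases hj : j = 0
    · simp [hj]
    · rw [h j hj, zero_mul, AddChar.map_zero_eq_one, one_mul]

theorem kv_of_star {θ : IrrCharacter G} {ε : ℤ} {a : ZMod p} (ha : a ≠ 0)
    (h : ∀ j : ZMod p, j ≠ 0 →
      profile S θ j = (ε : ℂ) * ∑ u ∈ fusion p S.x, ZMod.stdAddChar (a * u * j))
    {k : ZMod p} (hk : k ≠ 0) :
    kv S θ k = if ∃ u ∈ fusion p S.x, a * u = k then -ε else 0 := by
  classical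
  apply Int.cast_injective (α := ℂ)
  rw [kv_cast, sum_congr rfl (g := fun j => (ε : ℂ) * ∑ u ∈ fusion p S.x,
    ZMod.stdAddChar (a * u * j) * (1 - ZMod.stdAddChar (-(k * j)))) fun j _ => ?_,
    ← mul_sum, sum_comm, sum_congr rfl (g := fun u => - if a * u = k then (p : ℂ) else 0)
    fun u hu => by
      rw [sum_shift_eq, if_neg (mul_ne_zero ha (ne_zero_of_mem_fusion S.order_x hu)), zero_sub],
    sum_neg_distrib]
  · have hp0 : (p : ℂ) ≠ 0 := Nat.cast_ne_zero.mpr hp.out.ne_zero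
    by_cases hex : ∃ u ∈ fusion p S.x, a * u = k
    · obtain ⟨u, hu, he⟩ := hex
      rw [if_pos ⟨u, hu, he⟩, sum_eq_single u
        (fun w _ hw => if_neg fun hw' => hw (mul_left_cancel₀ ha (hw'.trans he.symm)))
        (fun hh => absurd hu hh), if_pos he]
      push_cast
      field_simp
    · rw [if_neg hex, sum_eq_zero fun w hw => if_neg fun hw' => hex ⟨w, hw, hw'⟩]
      simp
  · by_cases hj : j = 0
    · simp [hj]
    · rw [h j hj, mul_assoc, sum_mul]

/-- The data of the structure theorem. -/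
structure Prof where
  /-- The characters with constant profile. -/
  A : Finset (IrrCharacter G)
  /-- The exceptional characters. -/
  B : Finset (IrrCharacter G)
  /-- The signs. -/
  δ : IrrCharacter G → ℤ
  /-- The exceptional sign. -/
  ε : ℤ
  /-- A representative of the orbit of an exceptional character. -/
  a : IrrCharacter G → ZMod p
  disj : Disjoint A B
  cardA : A.card = (fusion p S.x).card
  hε : ε = 1 ∨ ε = -1
  hA : ∀ χ ∈ A, (δ χ = 1 ∨ δ χ = -1) ∧ ∀ j : ZMod p, j ≠ 0 → profile S χ j = (δ χ : ℂ)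
  hB : ∀ θ ∈ B, a θ ≠ 0 ∧ ∀ j : ZMod p, j ≠ 0 → profile S θ j =
    (ε : ℂ) * ∑ u ∈ fusion p S.x, ZMod.stdAddChar (a θ * u * j)
  hO : ∀ χ, χ ∉ A → χ ∉ B → ∀ j : ZMod p, j ≠ 0 → profile S χ j = 0

theorem exists_prof (hidx : ¬ p ∣ (centralizer ({S.x} : Set G)).index) {t : ℕ}
    (het : (fusion p S.x).card * t = p - 1) : ∃ P : Prof S, P.B.card = t := by
  obtain ⟨A, B, δ, ε, a, h1, h2, h3, h4, h5, h6, h7, -⟩ := exists_structure S hidx het
  exact ⟨⟨A, B, δ, ε, a, h1, h2, h4, h5, h6, h7⟩, h3⟩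

variable {S} (P : Prof S)

theorem Prof.kv_A {χ : IrrCharacter G} (hχ : χ ∈ P.A) {k : ZMod p} (hk : k ≠ 0) :
    kv S χ k = P.δ χ := kv_of_const S (P.hA χ hχ).2 hk

theorem Prof.kv_B {χ : IrrCharacter G} (hχ : χ ∈ P.B) {k : ZMod p} (hk : k ≠ 0) :
    kv S χ k = if ∃ u ∈ fusion p S.x, P.a χ * u = k then -P.ε else 0 :=
  kv_of_star S (P.hB χ hχ).1 (P.hB χ hχ).2 hk

theorem Prof.kv_O {χ : IrrCharacter G} (h1 : χ ∉ P.A) (h2 : χ ∉ P.B) {k : ZMod p} (hk : k ≠ 0) :
    kv S χ k = 0 := kv_of_const S (fun j hj => by rw [P.hO χ h1 h2 j hj, Int.cast_zero]) hk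

/-- Every orbit is met by exactly one exceptional character. -/
theorem Prof.existsUnique_B {k : ZMod p} (hk : k ≠ 0) :
    ∃! θ, θ ∈ P.B ∧ ∃ u ∈ fusion p S.x, P.a θ * u = k := by
  classical
  have h := kv_gram S hk hk
  rw [show ((fusion p S.x).filter fun u => k * u = k) = {1} from ?_, card_singleton] at h
  · rw [← sum_subset (subset_univ (P.A ∪ P.B)) fun χ _ hχ => by
        rw [mem_union, not_or] at hχ; rw [P.kv_O hχ.1 hχ.2 hk, mul_zero],
      sum_union P.disj, sum_congr rfl (g := fun _ => (1 : ℤ)) fun χ hχ => by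
        rw [P.kv_A hχ hk]; rcases (P.hA χ hχ).1 with h' | h' <;> rw [h'] <;> norm_num,
      sum_const, nsmul_one, P.cardA,
      sum_congr rfl (g := fun χ => if ∃ u ∈ fusion p S.x, P.a χ * u = k then (1 : ℤ) else 0)
        fun χ hχ => by
          rw [P.kv_B hχ hk]
          rcases P.hε with h' | h' <;> rw [h'] <;> split_ifs <;> norm_num,
      sum_boole] at h
    have h1 : (P.B.filter fun χ => ∃ u ∈ fusion p S.x, P.a χ * u = k).card = 1 := by
      push_cast at h
      omega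
    obtain ⟨θ, hθ⟩ := card_eq_one.mp h1
    refine ⟨θ, ?_, fun χ hχ => ?_⟩
    · have : θ ∈ ({θ} : Finset (IrrCharacter G)) := mem_singleton_self θ
      rw [← hθ, mem_filter] at this
      exact this
    · have : χ ∈ P.B.filter fun χ => ∃ u ∈ fusion p S.x, P.a χ * u = k := mem_filter.mpr hχ
      rwa [hθ, mem_singleton] at this
  · ext u
    simp only [mem_filter, mem_singleton, mul_eq_left₀ hk]
    exact ⟨fun h => h.2, fun h => ⟨h ▸ one_mem_fusion, h⟩⟩

theorem Prof.mN_A {χ : IrrCharacter G} (hχ : χ ∈ P.A) {k : ZMod p} (hk : k ≠ 0) :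
    (mN S (χ : G → ℂ) (k, (Chars.trivialIrr S.V)) : ℤ) = mN S (χ : G → ℂ) (0, (Chars.trivialIrr S.V)) - P.δ χ := by
  have h := P.kv_A hχ hk
  rw [kv_eq_mN] at h
  omega

theorem abs_le_sq_self (z : ℤ) : |z| ≤ z ^ 2 := by
  rw [Int.abs_eq_natAbs, ← Int.natAbs_sq]
  exact_mod_cast Nat.le_self_pow two_ne_zero z.natAbs

variable (S)

set_option maxHeartbeats 1000000 in
/-- Multiplicities of a nontrivial character of `V` in a character with constant profile `± 1` do
not depend on the character of `⟨x⟩`. -/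
theorem mN_const (hidx : ¬ p ∣ (centralizer ({S.x} : Set G)).index) (ψ : IrrCharacter G)
    {δ : ℤ} (hδ : δ = 1 ∨ δ = -1) (hprof : ∀ j : ZMod p, j ≠ 0 → profile S ψ j = (δ : ℂ))
    {φ : IrrCharacter S.V} (hφ : φ ≠ (Chars.trivialIrr S.V)) (k : ZMod p) :
    mN S (ψ : G → ℂ) (k, φ) = mN S (ψ : G → ℂ) (0, φ) := by
  classical
  obtain ⟨M, hM⟩ := Glauberman.exists_isPModular hp.out
  haveI := Blocks.isPModular_isPrime hM
  have hdvd := dvd_sum_mN S hidx hM ψ hδ hprof hφ
  set d : ZMod p → ℤ := fun l => (mN S (ψ : G → ℂ) (0, φ) : ℤ) - mN S (ψ : G → ℂ) (l, φ) with hd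
  set St := (nset S).filter fun g => conjIrr S g φ = φ with hSt
  set U := St.image (expo S) with hU
  set T := univ.erase (0 : ZMod p) with hT
  set S1 := ∑ l ∈ T, d l with hS1
  set Q := ∑ l ∈ T, d l ^ 2 with hQ
  have hd0 : d 0 = 0 := sub_self _
  have hpS1 : (p : ℤ) ∣ S1 := by
    rw [hS1, sum_erase_eq_sub (mem_univ _), hd0, sub_zero]
    simp only [d, sum_sub_distrib, sum_const, card_univ, ZMod.card, nsmul_eq_mul]
    exact dvd_sub (dvd_mul_right _ _) (by exact_mod_cast Int.natCast_dvd_natCast.mpr hdvd)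
  have hUprop : ∀ u ∈ U, ∃ g, Nrm S g ∧ conjIrr S g φ = φ ∧ expo S g = u := by
    intro u hu
    obtain ⟨g, hg, rfl⟩ := mem_image.mp hu
    obtain ⟨hg1, hg2⟩ := mem_filter.mp hg
    exact ⟨g, (mem_nset S).mp hg1, hg2, rfl⟩
  have hUmem : ∀ g, Nrm S g → conjIrr S g φ = φ → expo S g ∈ U := fun g h1 h2 =>
    mem_image_of_mem _ (mem_filter.mpr ⟨(mem_nset S).mpr h1, h2⟩)
  have hUone : (1 : ZMod p) ∈ U := by
    obtain ⟨h1, h2, h3⟩ := conjIrr_centralizer S (one_mem (centralizer ({S.x} : Set G))) φ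
    exact h3 ▸ hUmem 1 h2 h1
  have hU0 : ∀ u ∈ U, u ≠ 0 := fun u hu => by
    obtain ⟨g, hg, -, rfl⟩ := hUprop u hu
    exact expo_ne_zero S hg
  have hUmul : ∀ u ∈ U, ∀ w ∈ U, u * w ∈ U := by
    intro u hu w hw
    obtain ⟨g, hg, hgc, rfl⟩ := hUprop u hu
    obtain ⟨h, hh, hhc, rfl⟩ := hUprop w hw
    obtain ⟨h1, h2⟩ := expo_mul S hg hh
    refine h2 ▸ hUmem _ h1 ?_
    have := congrArg Prod.snd (act_mul S hg hh (0, φ))
    simp only [act] at this
    rw [this, hgc, hhc]
  have hinv : ∀ u ∈ U, ∀ l, d (l * u) = d l := by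
    intro u hu l
    obtain ⟨g, hg, hgc, rfl⟩ := hUprop u hu
    have h1 : mlt S (ψ : G → ℂ) (act S g (l, φ)) = mlt S (ψ : G → ℂ) (l, φ) :=
      mlt_act S (Chars.irr_isClassFunction ψ) hg _
    simp only [act, hgc] at h1
    have h2 : mN S (ψ : G → ℂ) (l * expo S g, φ) = mN S (ψ : G → ℂ) (l, φ) := by
      simp only [mN, h1]
    simp only [d, h2]
  have hcardSt : St.card = U.card * cN S := by
    rw [card_eq_sum_card_fiberwise (f := expo S) (t := U) (fun g hg => mem_image_of_mem _ hg),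
      sum_congr rfl (g := fun _ => cN S) fun u hu => ?_, sum_const, smul_eq_mul]
    obtain ⟨g, hg, hgc, he⟩ := hUprop u hu
    rw [← card_act_fiber S φ u φ ⟨g, hg, he, hgc⟩, hSt, filter_filter]
    congr 1
    exact filter_congr fun g' _ => and_comm
  -- Bessel
  let c : Idx S → ℤ := fun i =>
    if i.2 = φ then (if i.1 = 0 then S1 else - d i.1) else 0
  have hcsum : ∀ F : Idx S → ℂ, ∑ i, (c i : ℂ) * F i =
      (S1 : ℂ) * F (0, φ) - ∑ l ∈ T, (d l : ℂ) * F (l, φ) := by
    intro F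
    rw [Fintype.sum_prod_type, sum_congr rfl (g := fun l => (c (l, φ) : ℂ) * F (l, φ)) fun l _ =>
      sum_eq_single φ (fun φ' _ hne => by simp [c, hne]) (by simp),
      ← add_sum_erase univ _ (mem_univ (0 : ZMod p)), sub_eq_add_neg, ← sum_neg_distrib]
    congr 1
    · simp [c]
    · refine sum_congr rfl fun l hl => ?_
      simp [c, ne_of_mem_erase hl]
  have hsupp : ∀ a, (∑ i, (c i : ℂ) * chr S i a) ≠ 0 →
      ∀ g b, g * pt S a * g⁻¹ = pt S b → Nrm S g := by
    rintro ⟨j, v⟩ hne g ⟨i, w⟩ hb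
    refine nrm_of_ne_zero S (fun hj => hne ?_) hb
    rw [hcsum, hj]
    simp only [chr, mul_zero, AddChar.map_zero_eq_one, one_mul, ← sum_mul, hS1, Int.cast_sum,
      sub_self]
  have hgram := gram_formula S c c hsupp
  have hpair : ∀ χ : IrrCharacter G, (∑ i, c i * (mN S (χ : G → ℂ) i : ℤ)) =
      ∑ l ∈ T, d l * ((mN S (χ : G → ℂ) (0, φ) : ℤ) - mN S (χ : G → ℂ) (l, φ)) := by
    intro χ
    apply Int.cast_injective (α := ℂ)
    push_cast
    rw [hcsum fun i => (mN S (χ : G → ℂ) i : ℂ), hS1]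
    push_cast
    rw [sum_mul, ← sum_sub_distrib]
    exact sum_congr rfl fun l _ => by ring
  have hle : Q ^ 2 * cN S ≤ (∑ χ : IrrCharacter G,
      (∑ i, c i * (mN S (χ : G → ℂ) i : ℤ)) * ∑ i, c i * (mN S (χ : G → ℂ) i : ℤ)) * cN S := by
    refine mul_le_mul_of_nonneg_right ?_ (Nat.cast_nonneg _)
    refine le_trans (le_of_eq ?_) (single_le_sum (fun χ _ => mul_self_nonneg _) (mem_univ ψ))
    rw [hpair, sq, hQ]
    simp only [d, sq]
  rw [hgram] at hle
  have hterm : ∀ g ∈ nset S, ∑ i, c (act S g i) * c i =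
      if conjIrr S g φ = φ then S1 ^ 2 + Q else 0 := by
    intro g hg
    have hg' := (mem_nset S).mp hg
    rw [Fintype.sum_prod_type, sum_congr rfl (g := fun l => c (act S g (l, φ)) * c (l, φ)) fun l _ =>
      sum_eq_single φ (fun φ' _ hne => by simp [c, hne]) (by simp)]
    by_cases hgc : conjIrr S g φ = φ
    · rw [if_pos hgc, ← add_sum_erase univ _ (mem_univ (0 : ZMod p))]
      congr 1
      · simp [c, act, hgc, sq]
      · rw [hQ]
        refine sum_congr rfl fun l hl => ?_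
        have hl0 := ne_of_mem_erase hl
        simp only [c, act, hgc, if_pos, if_neg hl0, if_neg (mul_ne_zero hl0 (expo_ne_zero S hg'))]
        rw [hinv _ (hUmem g hg' hgc) l]
        ring
    · rw [if_neg hgc]
      exact sum_eq_zero fun l _ => by simp [c, act, hgc]
  rw [sum_congr rfl hterm, ← sum_filter, sum_const, hcardSt, nsmul_eq_mul, Nat.cast_mul] at hle
  have hB : Q ^ 2 ≤ (U.card : ℤ) * (S1 ^ 2 + Q) := by
    have hc : (0 : ℤ) < (cN S : ℤ) := by
      exact_mod_cast Nat.mul_pos hp.out.pos Nat.card_pos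
    refine le_of_mul_le_mul_right ?_ hc
    push_cast at hle ⊢
    linarith
  -- orbits
  have hUimage : ∀ l : ZMod p, l ≠ 0 → (U.image (l * ·)).card = U.card := fun l hl =>
    card_image_of_injective _ (mul_right_injective₀ hl)
  have hsmul : ∀ u ∈ U, U.image (u * ·) = U := fun u hu =>
    eq_of_subset_of_card_le (image_subset_iff.mpr fun w hw => hUmul u hu w hw)
      (le_of_eq (hUimage u (hU0 u hu)).symm)
  have hfib : ∀ l ∈ T, T.filter (fun k => U.image (k * ·) = U.image (l * ·)) = U.image (l * ·) := by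
    intro l hl
    have hl0 := ne_of_mem_erase hl
    ext k
    constructor
    · intro hk
      rw [← (mem_filter.mp hk).2]
      exact mem_image.mpr ⟨1, hUone, mul_one k⟩
    · intro hk
      obtain ⟨u, hu, rfl⟩ := mem_image.mp hk
      refine mem_filter.mpr ⟨mem_erase.mpr ⟨mul_ne_zero hl0 (hU0 u hu), mem_univ _⟩, ?_⟩
      conv_rhs => rw [← hsmul u hu, image_image]
      exact image_congr fun w _ => mul_assoc l u w
  have horb : ∀ f : ℤ → ℤ, ∀ l ∈ T,
      ∑ k ∈ U.image (l * ·), f (d k) = (U.card : ℤ) * f (d l) := by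
    intro f l hl
    rw [sum_image fun a _ b _ h => mul_left_cancel₀ (ne_of_mem_erase hl) h,
      sum_congr rfl (g := fun _ => f (d l)) fun u hu => by rw [hinv u hu l], sum_const, nsmul_eq_mul]
  have hsS1 : (U.card : ℤ) ∣ S1 := by
    rw [hS1, ← sum_fiberwise_of_maps_to (t := T.image fun k => U.image (k * ·))
      (fun k hk => mem_image_of_mem _ hk)]
    refine dvd_sum fun O hO => ?_
    obtain ⟨l, hl, rfl⟩ := mem_image.mp hO
    rw [hfib l hl, horb (fun z => z) l hl]
    exact dvd_mul_right _ _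
  have hs1 : 1 ≤ U.card := card_pos.mpr ⟨1, hUone⟩
  have hTcard : T.card = p - 1 := by
    rw [hT, card_erase_of_mem (mem_univ _), card_univ, ZMod.card]
  have hsp : U.card < p := by
    have : U ⊆ T := fun u hu => mem_erase.mpr ⟨hU0 u hu, mem_univ _⟩
    have := card_le_card this
    have := hp.out.two_le
    omega
  have hCS : S1 ^ 2 ≤ ((p - 1 : ℕ) : ℤ) * Q := by
    rw [← hTcard]
    exact sq_sum_le_card_mul_sum_sq
  have hQ0 : 0 ≤ Q := sum_nonneg fun _ _ => sq_nonneg _
  have hQsp : Q ≤ (U.card : ℤ) * p := by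
    have h1 : Q * Q ≤ ((U.card : ℤ) * p) * Q := by
      have h2 : ((p - 1 : ℕ) : ℤ) + 1 = p := by have := hp.out.pos; omega
      have h3 := mul_le_mul_of_nonneg_left hCS (Nat.cast_nonneg (α := ℤ) U.card)
      calc Q * Q = Q ^ 2 := (sq Q).symm
        _ ≤ (U.card : ℤ) * (S1 ^ 2 + Q) := hB
        _ ≤ (U.card : ℤ) * (((p - 1 : ℕ) : ℤ) * Q) + (U.card : ℤ) * Q := by rw [mul_add]; linarith
        _ = (U.card : ℤ) * (((p - 1 : ℕ) : ℤ) + 1) * Q := by ring
        _ = _ := by rw [h2]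
    rcases hQ0.eq_or_lt with h | h
    · rw [← h]; positivity
    · exact le_of_mul_le_mul_right h1 h
  have habs : |S1| ≤ Q := (abs_sum_le_sum_abs _ _).trans (sum_le_sum fun l _ => abs_le_sq_self _)
  have hS10 : S1 = 0 := by
    by_contra hne
    have hco : IsCoprime (U.card : ℤ) (p : ℤ) :=
      Nat.Coprime.isCoprime ((hp.out.coprime_iff_not_dvd.mpr
        (Nat.not_dvd_of_pos_of_lt (by omega) hsp)).symm)
    have hdiv := hco.mul_dvd hsS1 hpS1
    have hge := Int.le_of_dvd (abs_pos.mpr hne) ((dvd_abs _ _).mpr hdiv)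
    have h1 : ∀ l ∈ T, |d l| = d l ^ 2 := by
      have h2 : ∑ l ∈ T, |d l| = ∑ l ∈ T, d l ^ 2 := le_antisymm
        (sum_le_sum fun l _ => abs_le_sq_self _) (by
          have h3 : |S1| ≤ ∑ l ∈ T, |d l| := abs_sum_le_sum_abs _ _
          linarith)
      exact (sum_eq_sum_iff_of_le fun l _ => abs_le_sq_self (d l)).mp h2
    have h2 : ∀ l ∈ T, |d l| ≤ 1 := fun l hl => by
      have := h1 l hl
      rcases le_or_gt |d l| 1 with h | h
      · exact h
      · rw [← sq_abs] at this; nlinarith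
    have h3 : |S1| ≤ ((p - 1 : ℕ) : ℤ) := by
      rw [← hTcard]
      refine (abs_sum_le_sum_abs _ _).trans ((sum_le_sum h2).trans ?_)
      simp
    have h4 : (p : ℤ) ≤ (U.card : ℤ) * p :=
      le_mul_of_one_le_left (by positivity) (by exact_mod_cast hs1)
    have := hp.out.pos
    omega
  have hQs : Q ≤ (U.card : ℤ) := by
    rw [hS10] at hB
    rcases hQ0.eq_or_lt with h | h
    · rw [← h]; positivity
    · nlinarith
  by_contra hne
  have hk0 : k ≠ 0 := fun h => hne (by rw [h])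
  have hdk : d k ≠ 0 := fun h => hne (by simp only [d] at h; omega)
  have hkT : k ∈ T := mem_erase.mpr ⟨hk0, mem_univ _⟩
  have hsub : U.image (k * ·) ⊆ T := by
    rw [← hfib k hkT]; exact filter_subset _ _
  have hsplit : ∀ f : ℤ → ℤ, ∑ l ∈ T, f (d l) =
      ∑ l ∈ T \ U.image (k * ·), f (d l) + (U.card : ℤ) * f (d k) := fun f => by
    rw [← horb f k hkT, sum_sdiff hsub]
  have hsq1 : 1 ≤ d k ^ 2 := by
    have := pow_pos (abs_pos.mpr hdk) 2
    rw [sq_abs] at this
    omega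
  have hrest0 : 0 ≤ ∑ l ∈ T \ U.image (k * ·), (fun z => z ^ 2) (d l) :=
    sum_nonneg fun _ _ => sq_nonneg _
  have hQ2 := hsplit fun z => z ^ 2
  have hs0 : (1 : ℤ) ≤ U.card := by exact_mod_cast hs1
  have hrest : ∑ l ∈ T \ U.image (k * ·), (fun z => z ^ 2) (d l) = 0 := by
    rw [← hQ] at hQ2
    nlinarith
  have hS2 := hsplit fun z => z
  rw [← hS1, hS10, sum_eq_zero fun l hl => by
    simpa using (sum_eq_zero_iff_of_nonneg fun _ _ => sq_nonneg _).mp hrest l hl, zero_add] at hS2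
  rcases mul_eq_zero.mp hS2.symm with h | h
  · omega
  · exact hdk h

set_option maxHeartbeats 1000000 in
/-- A nontrivial character of `V` meeting a character with constant profile and no fixed points on
the `V`-fixed part has large degree. -/
theorem le_two_mul_degree (P : Prof S)
    (hTI : ∀ v ∈ S.V, v ∉ center G → ∀ g : G, g * v * g⁻¹ ∈ S.V → Nrm S g)
    {ψ : IrrCharacter G} (hψ : ψ ∈ P.A) {φ : IrrCharacter S.V} (hφ : φ ≠ (Chars.trivialIrr S.V))
    (hZ : ∀ v : S.V, (v : G) ∈ center G → (φ : S.V → ℂ) v = (φ : S.V → ℂ) 1)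
    {k : ZMod p} (hk : k ≠ 0) (hk1 : mN S (ψ : G → ℂ) (k, (Chars.trivialIrr S.V)) = 0)
    (hkφ : mN S (ψ : G → ℂ) (k, φ) ≠ 0) :
    P.B.card ≤ 2 * charDegree (φ : S.V → ℂ) := by
  classical
  obtain ⟨hf0, hf⟩ := Chars.charDegree_spec φ
  set f := charDegree (φ : S.V → ℂ)
  let c : Idx S → ℤ := fun i => (if i = (k, φ) then 1 else 0) - if i = (k, (Chars.trivialIrr S.V)) then (f : ℤ) else 0
  have hcsum : ∀ F : Idx S → ℤ, ∑ i, c i * F i = F (k, φ) - (f : ℤ) * F (k, (Chars.trivialIrr S.V)) := by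
    intro F
    simp [c, sub_mul, sum_sub_distrib, ite_mul]
  set Y : IrrCharacter G → ℤ := fun χ =>
    (mN S (χ : G → ℂ) (k, φ) : ℤ) - (f : ℤ) * mN S (χ : G → ℂ) (k, (Chars.trivialIrr S.V)) with hY
  have hsupp : ∀ a, (∑ i, (c i : ℂ) * chr S i a) ≠ 0 →
      ∀ g b, g * pt S a * g⁻¹ = pt S b → Nrm S g := by
    rintro ⟨j, v⟩ hne g ⟨i, w⟩ hb
    by_cases hj : j = 0
    · subst hj
      have hv : (v : G) ∉ center G := fun hvz => hne (by
        simp [c, sub_mul, sum_sub_distrib, ite_mul, chr, hZ v hvz, hf])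
      have hb' : g * (v : G) * g⁻¹ = pt S (i, w) := by simpa [pt, xp_zero] using hb
      by_cases hi : i = 0
      · subst hi
        exact hTI _ v.2 hv g (by rw [hb']; simp [pt, xp_zero])
      · have h2 : g⁻¹ * pt S (i, w) * g⁻¹⁻¹ = pt S (0, v) := by
          rw [← hb']; simp [pt, xp_zero]; group
        have h3 := nrm_inv S (nrm_of_ne_zero S hi h2)
        rwa [inv_inv] at h3
    · exact nrm_of_ne_zero S hj hb
  have htriv : ∀ g, Nrm S g → conjIrr S g ((Chars.trivialIrr S.V)) = (Chars.trivialIrr S.V) := fun g hg =>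
    Subtype.ext (funext fun w => by rw [conjIrr_apply S hg]; simp)
  have hne1 : ∀ g, Nrm S g → conjIrr S g φ ≠ (Chars.trivialIrr S.V) := by
    intro g hg he
    refine hφ (Subtype.ext (funext fun w => ?_))
    have := congrArg (fun ξ : IrrCharacter S.V => (ξ : S.V → ℂ) ((conjV S hg).symm w)) he
    simpa [conjIrr_apply S hg] using this
  have hu1 : ∀ g, Nrm S g → expo S g = 1 → conjIrr S g φ = φ := by
    intro g hg he
    obtain ⟨h1, h2, h3⟩ := conjIrr_centralizer S (one_mem (centralizer ({S.x} : Set G))) φ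
    rw [act_inj_expo S hg h2 (he.trans h3.symm) φ, h1]
  have hcN : (cN S : ℤ) ≠ 0 := by exact_mod_cast mul_ne_zero hp.out.ne_zero Nat.card_pos.ne'
  -- the norm
  have hnorm : ∑ χ, Y χ * Y χ = 1 + (f : ℤ) ^ 2 := by
    have h := gram_formula S c c hsupp
    simp only [hcsum] at h
    have hterm : ∀ g ∈ nset S, ∑ i, c (act S g i) * c i =
        if expo S g = 1 then 1 + (f : ℤ) ^ 2 else 0 := by
      intro g hg
      have hg' := (mem_nset S).mp hg
      rw [sum_congr rfl fun i _ => mul_comm _ _, hcsum fun i => c (act S g i)]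
      by_cases he : expo S g = 1
      · simp only [c, act, he, mul_one, hu1 g hg' he, htriv g hg', if_pos, Prod.mk.injEq, hφ,
          Ne.symm hφ, and_false, if_false]
        ring
      · have : k * expo S g ≠ k := fun h' => he (mul_left_cancel₀ hk (h'.trans (mul_one k).symm))
        simp [c, act, Prod.mk.injEq, this, he]
    rw [sum_congr rfl hterm, ← sum_filter, sum_const, nsmul_eq_mul] at h
    have hcard : ((nset S).filter fun g => expo S g = 1).card = cN S := by
      obtain ⟨h1, h2, h3⟩ := conjIrr_centralizer S (one_mem (centralizer ({S.x} : Set G))) ((Chars.trivialIrr S.V))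
      rw [← card_act_fiber S ((Chars.trivialIrr S.V)) 1 ((Chars.trivialIrr S.V)) ⟨1, h2, h3, h1⟩]
      congr 1
      exact filter_congr fun g hg => ⟨fun he => ⟨he, htriv g ((mem_nset S).mp hg)⟩, fun he => he.1⟩
    rw [hcard, mul_comm (cN S : ℤ)] at h
    exact mul_right_cancel₀ hcN h
  -- the products with the vectors `kv`
  have hcross : ∀ i : ZMod p, i ≠ 0 → ∑ χ, Y χ * kv S χ i =
      (f : ℤ) * if ∃ u ∈ fusion p S.x, i * u = k then 1 else 0 := by
    intro i hi
    let e : Idx S → ℤ := fun j =>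
      (if j = (0, (Chars.trivialIrr S.V)) then 1 else 0) - if j = (i, (Chars.trivialIrr S.V)) then 1 else 0
    have hesum : ∀ F : Idx S → ℤ, ∑ j, e j * F j = F (0, (Chars.trivialIrr S.V)) - F (i, (Chars.trivialIrr S.V)) := by
      intro F
      simp [e, sub_mul, sum_sub_distrib, ite_mul]
    have h := gram_formula S c e hsupp
    simp only [hcsum, hesum, ← kv_eq_mN] at h
    have hterm : ∀ g ∈ nset S, ∑ j, c (act S g j) * e j =
        if i * expo S g = k then (f : ℤ) else 0 := by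
      intro g hg
      have hg' := (mem_nset S).mp hg
      rw [sum_congr rfl fun j _ => mul_comm _ _, hesum fun j => c (act S g j)]
      by_cases he : i * expo S g = k
      · simp [c, act, htriv g hg', Prod.mk.injEq, he, hk.symm, Ne.symm hφ]
      · simp [c, act, htriv g hg', Prod.mk.injEq, he, hk.symm]
    rw [sum_congr rfl hterm, ← sum_filter, sum_const, nsmul_eq_mul] at h
    refine mul_right_cancel₀ hcN (h.trans ?_)
    by_cases hex : ∃ u ∈ fusion p S.x, i * u = k
    · obtain ⟨u, hu, he⟩ := hex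
      obtain ⟨g, hg, hge⟩ := exists_nrm S hu
      rw [if_pos ⟨u, hu, he⟩, show ((nset S).filter fun g => i * expo S g = k) =
        ((nset S).filter fun g => expo S g = u ∧ conjIrr S g ((Chars.trivialIrr S.V)) = (Chars.trivialIrr S.V)) from
        filter_congr fun g' hg' => ⟨fun h' => ⟨mul_left_cancel₀ hi (h'.trans he.symm),
          htriv g' ((mem_nset S).mp hg')⟩, fun h' => by rw [h'.1, he]⟩,
        card_act_fiber S ((Chars.trivialIrr S.V)) u ((Chars.trivialIrr S.V)) ⟨g, hg, hge, htriv g hg⟩]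
      ring
    · rw [if_neg hex, filter_false_of_mem fun g hg h' =>
        hex ⟨_, expo_mem_fusion S ((mem_nset S).mp hg), h'⟩]
      simp
  -- the values on the exceptional characters
  obtain ⟨b₀, ⟨hb₀, hb₀k⟩, hb₀u⟩ := P.existsUnique_B hk
  set T := ∑ χ ∈ P.A, P.δ χ * Y χ with hT
  have hYB : ∀ χ ∈ P.B, Y χ = P.ε * (T - if χ = b₀ then (f : ℤ) else 0) := by
    intro χ hχ
    have ha := (P.hB χ hχ).1
    have h := hcross (P.a χ) ha
    rw [← sum_subset (subset_univ (P.A ∪ P.B)) fun ξ _ hξ => by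
        rw [mem_union, not_or] at hξ; rw [P.kv_O hξ.1 hξ.2 ha, mul_zero],
      sum_union P.disj, sum_congr rfl (g := fun ξ => P.δ ξ * Y ξ) fun ξ hξ => by
        rw [P.kv_A hξ ha, mul_comm],
      sum_eq_single χ (fun ξ hξ hne => by
        rw [P.kv_B hξ ha, if_neg, mul_zero]
        intro hex
        exact hne ((P.existsUnique_B ha).unique ⟨hξ, hex⟩ ⟨hχ, 1, one_mem_fusion, mul_one _⟩))
        (fun hh => absurd hχ hh),
      P.kv_B hχ ha, if_pos ⟨1, one_mem_fusion, mul_one _⟩, ← hT] at h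
    have hiff : (∃ u ∈ fusion p S.x, P.a χ * u = k) ↔ χ = b₀ :=
      ⟨fun hex => hb₀u χ ⟨hχ, hex⟩, fun he => he ▸ hb₀k⟩
    by_cases he : χ = b₀
    · rw [if_pos (hiff.mpr he), mul_one] at h
      rw [if_pos he]
      rcases P.hε with h' | h' <;> rw [h'] at h ⊢ <;> linarith
    · rw [if_neg (hiff.not.mpr he), mul_zero] at h
      rw [if_neg he]
      rcases P.hε with h' | h' <;> rw [h'] at h ⊢ <;> linarith
  have hsumB : ∑ χ ∈ P.B, Y χ * Y χ = (P.B.card : ℤ) * T ^ 2 - 2 * f * T + (f : ℤ) ^ 2 := by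
    rw [sum_congr rfl (g := fun χ => T ^ 2 + if χ = b₀ then (f : ℤ) ^ 2 - 2 * f * T else 0)
      fun χ hχ => ?_, sum_add_distrib, sum_const, nsmul_eq_mul, sum_ite_eq', if_pos hb₀]
    · ring
    · rw [hYB χ hχ]
      rcases P.hε with h | h <;> rw [h] <;> split_ifs <;> ring
  have hAB : ∑ χ ∈ P.A, Y χ * Y χ + ∑ χ ∈ P.B, Y χ * Y χ ≤ 1 + (f : ℤ) ^ 2 := by
    rw [← hnorm, ← sum_union P.disj]
    exact sum_le_sum_of_subset_of_nonneg (subset_univ _) fun _ _ _ => mul_self_nonneg _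
  rw [hsumB] at hAB
  have hψY : 1 ≤ Y ψ * Y ψ := by
    have h1 : Y ψ = mN S (ψ : G → ℂ) (k, φ) := by simp [hY, hk1]
    have h2 : 1 ≤ mN S (ψ : G → ℂ) (k, φ) := Nat.pos_of_ne_zero hkφ
    rw [h1]
    have : (1 : ℤ) ≤ mN S (ψ : G → ℂ) (k, φ) := by exact_mod_cast h2
    nlinarith
  have hsingle := single_le_sum (f := fun χ => Y χ * Y χ) (fun χ _ => mul_self_nonneg _) hψ
  by_contra hlt
  have hlt' : 2 * (f : ℤ) + 1 ≤ P.B.card := by omega
  rcases eq_or_ne T 0 with hT0 | hT0
  · rw [hT0] at hAB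
    rw [← add_sum_erase P.A _ hψ] at hAB
    have hnn : 0 ≤ ∑ χ ∈ P.A.erase ψ, Y χ * Y χ := sum_nonneg fun _ _ => mul_self_nonneg _
    have hrest : ∀ χ ∈ P.A.erase ψ, Y χ * Y χ = 0 :=
      (sum_eq_zero_iff_of_nonneg fun _ _ => mul_self_nonneg _).mp (by linarith)
    rw [hT, ← add_sum_erase P.A _ hψ, sum_eq_zero fun χ hχ => by
      rw [mul_self_eq_zero.mp (hrest χ hχ), mul_zero], add_zero] at hT0
    rcases mul_eq_zero.mp hT0 with h | h
    · rcases (P.hA ψ hψ).1 with h' | h' <;> omega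
    · rw [h] at hψY; omega
  · have h2 : T ≤ T ^ 2 := (le_abs_self T).trans (abs_le_sq_self T)
    have h1 : 1 ≤ T ^ 2 := (Int.one_le_abs hT0).trans (abs_le_sq_self T)
    have h3 := mul_le_mul_of_nonneg_left h2 (Nat.cast_nonneg (α := ℤ) f)
    have h4 := mul_le_mul_of_nonneg_right hlt' (sq_nonneg T)
    linarith

end Cfsg.Agent.Lib.DefectOne
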