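/-
An irreducible character of degree less than `(p - 1) / 2`: on `⟨x⟩ × V` it is supported by a single
orbit, and counting the constituents of `θ θ̄` that are trivial on `⟨x⟩ × V` forces `x` to be central.
-/
import Mathlib
import Cfsg.Agent.Lib.DefectOne.Sharp

set_option autoImplicit false
set_option linter.unusedSectionVars false
set_option linter.style.haveILetI false

namespace Cfsg.Agent.Lib.DefectOne

open scoped ComplexConjugate
open Cfsg Cfsg.Agent.Lib Finset Subgroup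
open Cfsg.Agent.Lib.SmallGroups.PrimeChar (xp fusion mem_fusion one_mem_fusion ne_zero_of_mem_fusion
  mul_mem_fusion inv_mem_fusion xp_one xp_mul xp_zero xp_add xp_injective conj_stdAddChar)

variable {G : Type*} [Group G] [Fintype G] {p : ℕ} [hp : Fact p.Prime] (S : Local p G)

noncomputable local instance instFintypeV_DefectOne_SmallFaithful : Fintype S.V := Fintype.ofFinite _

/-- The degree as a natural number. -/
noncomputable def degV (φ : IrrCharacter S.V) : ℕ := charDegree (φ : S.V → ℂ)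

theorem degV_pos (φ : IrrCharacter S.V) : 0 < degV S φ := (Chars.charDegree_spec φ).1

theorem degV_cast (φ : IrrCharacter S.V) : (φ : S.V → ℂ) 1 = (degV S φ : ℂ) :=
  (Chars.charDegree_spec φ).2

theorem degV_conjIrr {g : G} (hg : Nrm S g) (φ : IrrCharacter S.V) :
    degV S (conjIrr S g φ) = degV S φ := by
  apply Nat.cast_injective (R := ℂ)
  rw [← degV_cast, ← degV_cast, conjIrr_apply S hg, map_one]

theorem pdeg_eq {F : G → ℂ} (hF : IsCharacter G F) (k : ZMod p) :
    pdeg S F k = ((∑ φ, mN S F (k, φ) * degV S φ : ℕ) : ℂ) := by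
  rw [pdeg, Nat.cast_sum]
  exact sum_congr rfl fun φ _ => by rw [Nat.cast_mul, mN_cast S hF, degV_cast]

theorem degree_eq_sum {θ : IrrCharacter G} {n : ℕ} (hn : (θ : G → ℂ) 1 = n) :
    n = ∑ k, ∑ φ, mN S (θ : G → ℂ) (k, φ) * degV S φ := by
  apply Nat.cast_injective (R := ℂ)
  rw [← hn, apply_one_eq S (Chars.irr_isClassFunction θ), Nat.cast_sum]
  exact sum_congr rfl fun k _ => pdeg_eq S (Chars.irr_isCharacter θ) k

theorem sum_mN_le {θ : IrrCharacter G} {n : ℕ} (hn : (θ : G → ℂ) 1 = n) :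
    ∑ k, ∑ φ, mN S (θ : G → ℂ) (k, φ) ≤ n := by
  rw [degree_eq_sum S hn]
  exact sum_le_sum fun k _ => sum_le_sum fun φ _ => Nat.le_mul_of_pos_right _ (degV_pos S φ)

theorem mN_act (θ : IrrCharacter G) {g : G} (hg : Nrm S g) (i : Idx S) :
    mN S (θ : G → ℂ) (act S g i) = mN S (θ : G → ℂ) i := by
  simp only [mN, mlt_act S (Chars.irr_isClassFunction θ) hg]

/-- The squared multiplicities of the nontrivial characters of `⟨x⟩` are small. -/
theorem sum_sq_lt {θ : IrrCharacter G} {n : ℕ} (hn : (θ : G → ℂ) 1 = n) (hsmall : 2 * n + 1 < p) :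
    ∑ i : Idx S, (if i.1 = 0 then 0 else mN S (θ : G → ℂ) i ^ 2) <
      2 * (fusion p S.x).card := by
  classical
  set e := (fusion p S.x).card with he
  set T := univ.erase (0 : ZMod p) with hT
  set m : ZMod p → IrrCharacter S.V → ℤ := fun k φ => (mN S (θ : G → ℂ) (k, φ) : ℤ) with hm
  have hTc : (T.card : ℤ) = (p : ℤ) - 1 := by
    rw [hT, card_erase_of_mem (mem_univ _), card_univ, ZMod.card, Nat.cast_sub hp.out.one_le]
    simp
  have hshift : ∀ μ ∈ T, ∑ φ, ∑ k ∈ T, (m k φ - m (μ * k) φ) ^ 2 ≤ 2 * (e : ℤ) := by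
    intro μ hμT
    have hμ := ne_of_mem_erase hμT
    obtain ⟨θ', hθ'⟩ := exists_shift S θ (inv_ne_zero hμ)
    have hθ'N : ∀ k φ, (mN S (θ' : G → ℂ) (k, φ) : ℤ) = m (μ * k) φ := by
      intro k φ
      have h := hθ' (μ * k) φ
      rw [← mul_assoc, inv_mul_cancel₀ hμ, one_mul] at h
      simp only [hm, mN, h]
    let c : Idx S → ℤ := fun i => if i.1 = 0 then 0 else m i.1 i.2 - m (μ * i.1) i.2
    set Z := ∑ i, c i ^ 2 with hZ
    have hZeq : Z = ∑ φ, ∑ k ∈ T, (m k φ - m (μ * k) φ) ^ 2 := by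
      rw [hZ, Fintype.sum_prod_type, sum_comm]
      refine sum_congr rfl fun φ _ => ?_
      rw [← add_sum_erase univ _ (mem_univ (0 : ZMod p))]
      simp only [c, if_pos, sq, mul_zero, zero_add]
      exact sum_congr rfl fun k hk => by simp [ne_of_mem_erase hk]
    have hfix : ∀ φ, m 0 φ = m (μ * 0) φ := fun φ => by rw [mul_zero]
    have hc : ∀ i, c i = (mN S (θ : G → ℂ) i : ℤ) - mN S (θ' : G → ℂ) i := by
      intro i
      obtain ⟨k, φ⟩ := i
      rw [hθ'N]
      by_cases hk : k = 0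
      · simp [c, hk, hm]
      · simp [c, hk, hm]
    have hsupp : ∀ a, (∑ i, (c i : ℂ) * chr S i a) ≠ 0 →
        ∀ g b, g * pt S a * g⁻¹ = pt S b → Nrm S g := by
      rintro ⟨j, v⟩ hne g ⟨i, w⟩ hb
      refine nrm_of_ne_zero S (fun hj => hne ?_) hb
      subst hj
      simp only [chr, mul_zero, AddChar.map_zero_eq_one, one_mul, Fintype.sum_prod_type]
      rw [sum_comm]
      refine sum_eq_zero fun φ _ => ?_
      rw [← sum_mul, ← Int.cast_sum]
      simp only [hc, hθ'N, sum_sub_distrib]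
      rw [show ∑ k, (mN S (θ : G → ℂ) (k, φ) : ℤ) = ∑ k, m (μ * k) φ from
        (Fintype.sum_equiv (Equiv.mulLeft₀ μ hμ) _ _ fun k => rfl).symm, sub_self, Int.cast_zero,
        zero_mul]
    have hgram := gram_formula S c c hsupp
    have hinv : ∀ g, Nrm S g → ∀ i, c (act S g i) = c i := by
      intro g hg i
      rw [hc, hc, mN_act S θ hg, mN_act S θ' hg]
    have h5 : ∑ g ∈ nset S, ∑ i, c (act S g i) * c i = ((nset S).card : ℤ) * Z := by
      rw [sum_congr rfl (g := fun _ => Z) (fun g hg => by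
        rw [hZ]; exact sum_congr rfl fun i _ => by rw [hinv g ((mem_nset S).mp hg), sq]),
        sum_const, nsmul_eq_mul]
    rw [h5, card_nset] at hgram
    push_cast at hgram
    have hcN : (cN S : ℤ) ≠ 0 := by exact_mod_cast mul_ne_zero hp.out.ne_zero Nat.card_pos.ne'
    have hgram' : (∑ χ : IrrCharacter G, (∑ i, c i * (mN S (χ : G → ℂ) i : ℤ)) * ∑ i, c i * (mN S (χ : G → ℂ) i : ℤ)) =
        (e : ℤ) * Z := by
      refine mul_right_cancel₀ hcN ?_
      push_cast
      linear_combination hgram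
    set L : IrrCharacter G → ℤ := fun χ => ∑ i, c i * (mN S (χ : G → ℂ) i : ℤ) with hL
    rw [← hZeq]
    have hdiff : L θ - L θ' = Z := by
      simp only [hL, hZ, ← sum_sub_distrib]
      exact sum_congr rfl fun i _ => by rw [← mul_sub, ← hc i, sq]
    rcases eq_or_ne θ' θ with h | h
    · rw [h, sub_self] at hdiff
      omega
    · have h2 : L θ ^ 2 + L θ' ^ 2 ≤ (e : ℤ) * Z := by
        rw [← hgram', sq, sq, ← sum_pair (f := fun χ => L χ * L χ) (Ne.symm h)]
        exact sum_le_sum_of_subset_of_nonneg (subset_univ _) fun _ _ _ => mul_self_nonneg _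
      have hZ0 : 0 ≤ Z := sum_nonneg fun _ _ => sq_nonneg _
      have h3 : Z * Z ≤ (2 * (e : ℤ)) * Z := by
        rw [← hdiff] at h2 ⊢
        nlinarith [sq_nonneg (L θ + L θ')]
      rcases hZ0.eq_or_lt with h4 | h4
      · omega
      · exact le_of_mul_le_mul_right h3 h4
  have hperm : ∀ (k : ZMod p), k ∈ T → ∀ F : ZMod p → ℤ,
      ∑ μ ∈ T, F (μ * k) = ∑ μ ∈ T, F μ := by
    intro k hk F
    have hk0 := ne_of_mem_erase hk
    refine Finset.sum_nbij' (· * k) (· * k⁻¹) ?_ ?_ ?_ ?_ ?_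
    · exact fun μ hμ => mem_erase.mpr ⟨mul_ne_zero (ne_of_mem_erase hμ) hk0, mem_univ _⟩
    · exact fun μ hμ =>
        mem_erase.mpr ⟨mul_ne_zero (ne_of_mem_erase hμ) (inv_ne_zero hk0), mem_univ _⟩
    · exact fun μ _ => mul_inv_cancel_right₀ hk0 μ
    · exact fun μ _ => inv_mul_cancel_right₀ hk0 μ
    · exact fun μ _ => rfl
  set Sφ : IrrCharacter S.V → ℤ := fun φ => ∑ k ∈ T, m k φ with hSφ
  set Qφ : IrrCharacter S.V → ℤ := fun φ => ∑ k ∈ T, m k φ ^ 2 with hQφ
  have hkey : ∀ φ, ∑ μ ∈ T, ∑ k ∈ T, (m k φ - m (μ * k) φ) ^ 2 =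
      2 * ((p : ℤ) - 1) * Qφ φ - 2 * Sφ φ ^ 2 := by
    intro φ
    rw [sum_comm, sum_congr rfl (g := fun k =>
      ((p : ℤ) - 1) * m k φ ^ 2 - 2 * m k φ * Sφ φ + Qφ φ) fun k hk => ?_, sum_add_distrib,
      sum_sub_distrib, ← mul_sum, ← sum_mul, ← mul_sum, sum_const, nsmul_eq_mul, hTc]
    · simp only [hQφ, hSφ]
      ring
    · rw [sum_congr rfl fun μ _ => sub_sq (m k φ) (m (μ * k) φ), sum_add_distrib, sum_sub_distrib,
        sum_const, nsmul_eq_mul, hTc, ← mul_sum, hperm k hk (fun l => m l φ),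
        hperm k hk (fun l => m l φ ^ 2)]
  have htot : ∑ φ, (2 * ((p : ℤ) - 1) * Qφ φ - 2 * Sφ φ ^ 2) ≤ ((p : ℤ) - 1) * (2 * e) := by
    rw [← sum_congr rfl fun φ _ => hkey φ, sum_comm, ← hTc]
    calc _ ≤ ∑ _μ ∈ T, 2 * (e : ℤ) := sum_le_sum hshift
      _ = _ := by rw [sum_const, nsmul_eq_mul]
  have hS : ∀ φ, Sφ φ ^ 2 ≤ (n : ℤ) * Qφ φ := by
    intro φ
    have hnn : 0 ≤ Sφ φ := sum_nonneg fun _ _ => Nat.cast_nonneg _
    have h1 : Sφ φ ≤ (n : ℤ) := by
      have h := sum_mN_le S hn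
      have h' : ∑ k ∈ T, mN S (θ : G → ℂ) (k, φ) ≤ ∑ k, ∑ φ', mN S (θ : G → ℂ) (k, φ') :=
        (sum_le_sum_of_subset (subset_univ _)).trans (sum_le_sum fun k _ =>
          single_le_sum (f := fun φ' => mN S (θ : G → ℂ) (k, φ')) (fun _ _ => Nat.zero_le _)
            (mem_univ φ))
      simp only [hSφ, hm]
      exact_mod_cast h'.trans h
    have h2 : Sφ φ ≤ Qφ φ := sum_le_sum fun k _ => (le_abs_self _).trans (abs_le_sq_self _)
    rw [sq]
    exact mul_le_mul h1 h2 hnn (Nat.cast_nonneg _)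
  have hQ : ((∑ i : Idx S, (if i.1 = 0 then 0 else mN S (θ : G → ℂ) i ^ 2) : ℕ) : ℤ) =
      ∑ φ, Qφ φ := by
    rw [Fintype.sum_prod_type, sum_comm]
    push_cast
    refine sum_congr rfl fun φ _ => ?_
    rw [← add_sum_erase univ _ (mem_univ (0 : ZMod p))]
    simp only [if_pos, zero_add, hQφ, hm]
    exact sum_congr rfl fun k hk => by simp [ne_of_mem_erase hk]
  set Q := ∑ φ, Qφ φ
  have h1 : (((p : ℤ) - 1) - n) * Q ≤ ((p : ℤ) - 1) * e := by
    have h2 : ∑ φ, Sφ φ ^ 2 ≤ (n : ℤ) * Q := by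
      rw [mul_sum]; exact sum_le_sum fun φ _ => hS φ
    rw [sum_sub_distrib, ← mul_sum, ← mul_sum] at htot
    linarith
  have he0 : (0 : ℤ) < e := by exact_mod_cast card_pos.mpr ⟨1, one_mem_fusion⟩
  by_contra hlt
  push Not at hlt
  have hge : 2 * (e : ℤ) ≤ Q := by rw [← hQ]; exact_mod_cast hlt
  have hpn : 2 * (n : ℤ) + 1 < p := by exact_mod_cast hsmall
  nlinarith [mul_le_mul_of_nonneg_left hge (show (0 : ℤ) ≤ ((p : ℤ) - 1) - n by linarith),
    mul_pos he0 (show (0 : ℤ) < (p : ℤ) - 1 - 2 * n by linarith)]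

/-- The nontrivial part on `⟨x⟩ × V` is one orbit, with multiplicity one. -/
theorem exists_orbit {θ : IrrCharacter G} {n : ℕ} (hn : (θ : G → ℂ) 1 = n)
    (hsmall : 2 * n + 1 < p) (hx : (θ : G → ℂ) S.x ≠ (θ : G → ℂ) 1) :
    ∃ (K : Finset (ZMod p)) (φK : ZMod p → IrrCharacter S.V) (f : ℕ),
      K.card = (fusion p S.x).card ∧ 0 ∉ K ∧ (∀ k ∈ K, degV S (φK k) = f) ∧
      ∀ k φ, k ≠ 0 → mN S (θ : G → ℂ) (k, φ) = if k ∈ K ∧ φ = φK k then 1 else 0 := by
  classical
  set F : Idx S → ℕ := fun i => if i.1 = 0 then 0 else mN S (θ : G → ℂ) i ^ 2 with hF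
  have hlt : ∑ i, F i < 2 * (fusion p S.x).card := sum_sq_lt S hn hsmall
  choose gu hgu hgue using fun u : {u // u ∈ fusion p S.x} => exists_nrm S u.2
  let O : Idx S → Finset (Idx S) := fun i => univ.image fun u => act S (gu u) i
  have hOcard : ∀ i : Idx S, i.1 ≠ 0 → (O i).card = (fusion p S.x).card := by
    intro i hi
    rw [card_image_of_injective _ fun u w h => Subtype.ext ?_, card_univ, Fintype.card_coe]
    have h1 := congrArg Prod.fst h
    simp only [act, hgue] at h1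
    exact mul_left_cancel₀ hi h1
  have hmemO : ∀ i g, Nrm S g → act S g i ∈ O i := by
    intro i g hg
    refine mem_image.mpr ⟨⟨expo S g, expo_mem_fusion S hg⟩, mem_univ _, ?_⟩
    refine Prod.ext ?_ ?_
    · simp only [act, hgue]
    · exact act_inj_expo S (hgu _) hg (hgue _) i.2
  obtain ⟨i₀, hi₀, hi₀m⟩ : ∃ i : Idx S, i.1 ≠ 0 ∧ mN S (θ : G → ℂ) i ≠ 0 := by
    by_contra h
    push Not at h
    apply hx
    have h0 : ∀ k : ZMod p, k ≠ 0 → pdeg S (θ : G → ℂ) k = 0 := fun k hk => by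
      rw [pdeg_eq S (Chars.irr_isCharacter θ), sum_eq_zero fun φ _ => by rw [h (k, φ) hk, zero_mul],
        Nat.cast_zero]
    rw [← xp_one (p := p) (x := S.x), apply_xp_eq S (Chars.irr_isClassFunction θ),
      apply_one_eq S (Chars.irr_isClassFunction θ), sum_eq_single 0 (fun k _ hk => by
        rw [h0 k hk, zero_mul]) (by simp), sum_eq_single 0 (fun k _ hk => h0 k hk) (by simp),
      zero_mul, AddChar.map_zero_eq_one, mul_one]
  have hOfst : ∀ i : Idx S, i.1 ≠ 0 → ∀ j ∈ O i, j.1 ≠ 0 ∧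
      mN S (θ : G → ℂ) j = mN S (θ : G → ℂ) i := by
    intro i hi j hj
    obtain ⟨u, -, rfl⟩ := mem_image.mp hj
    exact ⟨mul_ne_zero hi (expo_ne_zero S (hgu u)), mN_act S θ (hgu u) i⟩
  have hOsum : ∀ i : Idx S, i.1 ≠ 0 →
      ∑ j ∈ O i, F j = (fusion p S.x).card * mN S (θ : G → ℂ) i ^ 2 := by
    intro i hi
    rw [sum_congr rfl (g := fun _ => mN S (θ : G → ℂ) i ^ 2) fun j hj => by
      rw [hF]; simp only [if_neg (hOfst i hi j hj).1, (hOfst i hi j hj).2], sum_const, hOcard i hi,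
      smul_eq_mul]
  have hle : ∀ s : Finset (Idx S), ∑ j ∈ s, F j ≤ ∑ i, F i := fun s =>
    sum_le_sum_of_subset (subset_univ s)
  have hone : mN S (θ : G → ℂ) i₀ = 1 := by
    by_contra h
    have h2 : 4 ≤ mN S (θ : G → ℂ) i₀ ^ 2 := by
      have : 2 ≤ mN S (θ : G → ℂ) i₀ := by omega
      nlinarith
    have := hle (O i₀)
    rw [hOsum i₀ hi₀] at this
    nlinarith
  have hout : ∀ j : Idx S, j.1 ≠ 0 → j ∉ O i₀ → mN S (θ : G → ℂ) j = 0 := by
    intro j hj hjO
    by_contra h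
    have hdisj : Disjoint (O i₀) (O j) := by
      rw [disjoint_left]
      intro l hl hl'
      obtain ⟨u, -, rfl⟩ := mem_image.mp hl
      obtain ⟨w, -, hw⟩ := mem_image.mp hl'
      refine hjO ?_
      obtain ⟨hn', -⟩ := expo_mul S (hgu u) (nrm_inv S (hgu w))
      have hj' : act S (gu u * (gu w)⁻¹) i₀ = j := by
        rw [act_mul S (hgu u) (nrm_inv S (hgu w)), ← hw, ← act_mul S (hgu w) (nrm_inv S (hgu w)),
          mul_inv_cancel]
        obtain ⟨h1, h2, h3⟩ :=
          conjIrr_centralizer S (one_mem (centralizer ({S.x} : Set G))) j.2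
        exact Prod.ext (by simp [act, h3]) h1
      rw [← hj']
      exact hmemO i₀ _ hn'
    have h1 := hle (O i₀ ∪ O j)
    rw [sum_union hdisj, hOsum i₀ hi₀, hOsum j hj, hone] at h1
    have : 1 ≤ mN S (θ : G → ℂ) j ^ 2 := Nat.one_le_pow _ _ (Nat.pos_of_ne_zero h)
    nlinarith
  let K := (O i₀).image Prod.fst
  have hinj : Set.InjOn Prod.fst (O i₀ : Set (Idx S)) := by
    intro a ha b hb h
    obtain ⟨u, -, rfl⟩ := mem_image.mp (mem_coe.mp ha)
    obtain ⟨w, -, rfl⟩ := mem_image.mp (mem_coe.mp hb)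
    simp only [act, hgue] at h
    rw [Subtype.ext (mul_left_cancel₀ hi₀ h)]
  let φK : ZMod p → IrrCharacter S.V := fun k =>
    if h : k ∈ K then (mem_image.mp h).choose.2 else i₀.2
  have hφK : ∀ k (hk : k ∈ K), (k, φK k) ∈ O i₀ := by
    intro k hk
    obtain ⟨h1, h2⟩ := (mem_image.mp hk).choose_spec
    simp only [φK, dif_pos hk]
    convert h1 using 1
    exact Prod.ext h2.symm rfl
  refine ⟨K, φK, degV S i₀.2, ?_, ?_, ?_, ?_⟩
  · rw [card_image_of_injOn hinj, hOcard i₀ hi₀]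
  · intro h
    obtain ⟨j, hj, hj0⟩ := mem_image.mp h
    exact (hOfst i₀ hi₀ j hj).1 hj0
  · intro k hk
    obtain ⟨u, -, hu⟩ := mem_image.mp (hφK k hk)
    rw [← show conjIrr S (gu u) i₀.2 = φK k from congrArg Prod.snd hu, degV_conjIrr S (hgu u)]
  · intro k φ hk
    by_cases h : k ∈ K ∧ φ = φK k
    · rw [if_pos h, h.2, (hOfst i₀ hi₀ _ (hφK k h.1)).2, hone]
    · rw [if_neg h]
      refine hout (k, φ) hk fun hmem => h ?_
      have hkK : k ∈ K := mem_image.mpr ⟨_, hmem, rfl⟩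
      exact ⟨hkK, congrArg Prod.snd (hinj (mem_coe.mpr hmem) (mem_coe.mpr (hφK k hkK)) rfl)⟩

/-- A constituent trivial on the center. -/
theorem eq_one_of_weighted_sum {ι : Type*} [Fintype ι] (c : ι → ℕ) (w : ι → ℂ) (d : ι → ℕ)
    (hw : ∀ i, ‖w i‖ ≤ d i) (h : ∑ i, (c i : ℂ) * w i = ∑ i, (c i : ℂ) * d i) {i : ι}
    (hi : c i ≠ 0) : w i = d i := by
  have h1 : ∀ j, ((c j : ℂ) * w j).re ≤ ((c j : ℂ) * d j).re := fun j => by
    simp only [Complex.mul_re, Complex.natCast_re, Complex.natCast_im, zero_mul, sub_zero]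
    exact mul_le_mul_of_nonneg_left ((Complex.re_le_norm _).trans (hw j)) (Nat.cast_nonneg _)
  have h2 := congrArg Complex.re h
  rw [Complex.re_sum, Complex.re_sum] at h2
  have h3 := (sum_eq_sum_iff_of_le fun j _ => h1 j).mp h2 i (mem_univ i)
  simp only [Complex.mul_re, Complex.natCast_re, Complex.natCast_im, zero_mul, sub_zero] at h3
  have h4 : (w i).re = (d i : ℝ) := mul_left_cancel₀ (Nat.cast_ne_zero.mpr hi) h3
  refine Complex.ext (by rw [h4, Complex.natCast_re]) ?_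
  rw [Complex.natCast_im]
  have h5 : ‖w i‖ ^ 2 ≤ (d i : ℝ) ^ 2 := pow_le_pow_left₀ (norm_nonneg _) (hw i) 2
  rw [Complex.sq_norm, Complex.normSq_apply, h4] at h5
  nlinarith

theorem norm_irr_le {H : Type*} [Group H] [Finite H] (χ : IrrCharacter H) (h : H) :
    ‖(χ : H → ℂ) h‖ ≤ charDegree (χ : H → ℂ) := by
  obtain ⟨-, hd⟩ := Chars.charDegree_spec χ
  obtain ⟨m, ρ, -, hρ⟩ := χ.2
  have hm : (χ : H → ℂ) 1 = m := by rw [← hρ]; simp [Representation.character]
  rw [hd, Nat.cast_inj] at hm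
  rw [hm, ← hρ]
  simpa using Chars.norm_char_le ρ h

theorem exists_mul_eq_sub_one : ∃ t, (fusion p S.x).card * t = p - 1 := by
  classical
  let E : Subgroup (ZMod p)ˣ :=
    { carrier := {u | (u : ZMod p) ∈ fusion p S.x}
      one_mem' := one_mem_fusion
      mul_mem' := fun hu hv => by
        show ((_ * _ : (ZMod p)ˣ) : ZMod p) ∈ fusion p S.x
        rw [Units.val_mul]
        exact mul_mem_fusion S.order_x hu hv
      inv_mem' := fun {u} hu => by
        show ((u⁻¹ : (ZMod p)ˣ) : ZMod p) ∈ fusion p S.x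
        rw [Units.val_inv_eq_inv_val]
        exact inv_mem_fusion S.order_x hu }
  have hE : Nat.card E = (fusion p S.x).card := by
    rw [← Nat.card_eq_finsetCard (fusion p S.x)]
    exact Nat.card_congr
      { toFun := fun u => ⟨((u : (ZMod p)ˣ) : ZMod p), u.2⟩
        invFun := fun u => ⟨Units.mk0 u.1 (ne_zero_of_mem_fusion S.order_x u.2), u.2⟩
        left_inv := fun u => Subtype.ext (Units.ext rfl)
        right_inv := fun u => rfl }
  have h := E.card_mul_index
  rw [hE, Nat.card_eq_fintype_card, ZMod.card_units p] at h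
  exact ⟨_, h⟩

theorem exists_mN_ne_zero {ψ : IrrCharacter G} (hx : (ψ : G → ℂ) S.x ≠ (ψ : G → ℂ) 1) :
    ∃ i : Idx S, i.1 ≠ 0 ∧ mN S (ψ : G → ℂ) i ≠ 0 := by
  by_contra h
  push Not at h
  apply hx
  have h0 : ∀ k : ZMod p, k ≠ 0 → pdeg S (ψ : G → ℂ) k = 0 := fun k hk => by
    rw [pdeg_eq S (Chars.irr_isCharacter ψ), sum_eq_zero fun φ _ => by rw [h (k, φ) hk, zero_mul],
      Nat.cast_zero]
  rw [← xp_one (p := p) (x := S.x), apply_xp_eq S (Chars.irr_isClassFunction ψ),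
    apply_one_eq S (Chars.irr_isClassFunction ψ), sum_eq_single 0 (fun k _ hk => by
      rw [h0 k hk, zero_mul]) (by simp), sum_eq_single 0 (fun k _ hk => h0 k hk) (by simp),
    zero_mul, AddChar.map_zero_eq_one, mul_one]

theorem arith_final {e t H h r : ℤ} (he : 1 ≤ e) (hh : h ^ 2 ≤ H) (hh0 : 0 ≤ h)
    (hcase : (5 ≤ t ∧ 2 * r < e) ∨ ((t = 3 ∨ t = 4) ∧ r = 0))
    (hineq : t * (H + e - 1 - r) ≤ 4 * h + 2 * (e - 1)) :
    (e = 1 ∧ H = 0) ∨ ((t = 3 ∨ t = 4) ∧ h = 1 ∧ e ≤ 2) := by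
  have hH : h ≤ H := le_trans (by nlinarith) hh
  rcases hcase with ⟨ht, hr⟩ | ⟨ht, hr⟩
  · left
    have h1 : 0 ≤ H + e - 1 - r := by omega
    have h2 := mul_le_mul_of_nonneg_right ht h1
    omega
  · subst hr
    rcases le_or_gt 2 h with h2 | h2
    · have h3 : 2 * h ≤ H := le_trans (by nlinarith) hh
      rcases ht with rfl | rfl <;> omega
    · rcases ht with rfl | rfl <;> omega

set_option maxHeartbeats 2000000 in
/-- The main counting argument. -/
theorem false_of_small {θ : IrrCharacter G} {n : ℕ} (hn : (θ : G → ℂ) 1 = n)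
    (hsmall : 2 * n + 1 < p) (hfaith : ∀ g : G, (θ : G → ℂ) g = (θ : G → ℂ) 1 → g = 1)
    (hidx : ¬ p ∣ (centralizer ({S.x} : Set G)).index)
    (hTI : ∀ v ∈ S.V, v ∉ center G → ∀ g : G, g * v * g⁻¹ ∈ S.V → Nrm S g)
    (hker : ∀ ψ : IrrCharacter G, ψ ≠ Chars.trivialIrr G → (ψ : G → ℂ) S.x ≠ (ψ : G → ℂ) 1)
    (hxc : S.x ∉ center G) : False := by
  classical
  set e := (fusion p S.x).card with he
  have he1 : 1 ≤ e := card_pos.mpr ⟨1, one_mem_fusion⟩
  obtain ⟨t, het⟩ := exists_mul_eq_sub_one S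
  obtain ⟨P, hPt⟩ := exists_prof S hidx het
  have hx1 : S.x ≠ 1 := fun h => hxc (h ▸ one_mem _)
  obtain ⟨K, φK, f, hKc, hK0, hKf, horb⟩ :=
    exists_orbit S hn hsmall fun h => hx1 (hfaith _ h)
  set m : ZMod p → IrrCharacter S.V → ℕ := fun k φ => mN S (θ : G → ℂ) (k, φ) with hm
  set h₀ : IrrCharacter S.V → ℕ := fun φ => m 0 φ with hh₀
  set s : IrrCharacter S.V → ℕ := fun φ => (K.filter fun k => φK k = φ).card with hs
  set T₀ := univ.erase (0 : ZMod p) with hT₀
  have hTc : T₀.card = p - 1 := by rw [hT₀, card_erase_of_mem (mem_univ _), card_univ, ZMod.card]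
  have hssum : ∑ φ, s φ = e := by
    rw [he, ← hKc, hs]
    exact (card_eq_sum_card_fiberwise fun _ _ => mem_univ _).symm
  have hsumT : ∀ φ, ∑ k ∈ T₀, m k φ = s φ := by
    intro φ
    simp only [hs]
    rw [card_filter]
    rw [sum_congr rfl (g := fun k => if k ∈ K ∧ φ = φK k then 1 else 0)
      fun k hk => horb k φ (ne_of_mem_erase hk), ← sum_subset
      (show K ⊆ T₀ from fun k hk => mem_erase.mpr ⟨fun h => hK0 (h ▸ hk), mem_univ _⟩)
      fun k _ hk => if_neg fun h => hk h.1]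
    exact sum_congr rfl fun k hk => by simp [hk, eq_comm]
  have hsumT2 : ∀ φ, ∑ k ∈ T₀, m k φ * m k φ = s φ := by
    intro φ
    rw [← hsumT φ]
    refine sum_congr rfl fun k hk => ?_
    simp only [hm, horb k φ (ne_of_mem_erase hk)]
    split_ifs <;> rfl
  have hne : (univ : Finset (IrrCharacter S.V)).Nonempty := ⟨Chars.trivialIrr S.V, mem_univ _⟩
  obtain ⟨φm, -, hmax⟩ := exists_max_image univ h₀ hne
  set h' := h₀ φm with hh'
  set H := ∑ φ, h₀ φ ^ 2 with hH
  have hh'H : h' ^ 2 ≤ H := single_le_sum (f := fun φ => h₀ φ ^ 2) (fun _ _ => Nat.zero_le _)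
    (mem_univ φm)
  -- the degree
  have hdeg : e * f + h' ≤ n := by
    rw [degree_eq_sum S hn, ← add_sum_erase univ _ (mem_univ (0 : ZMod p)), add_comm (e * f)]
    refine Nat.add_le_add ?_ ?_
    · exact (Nat.le_mul_of_pos_right _ (degV_pos S φm)).trans
        (single_le_sum (f := fun φ => m 0 φ * degV S φ) (fun _ _ => Nat.zero_le _) (mem_univ φm))
    · rw [show e * f = ∑ k ∈ K, f by rw [sum_const, smul_eq_mul, hKc]]
      refine le_trans (sum_le_sum fun k hk => ?_) (sum_le_sum_of_subset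
        (show K ⊆ T₀ from fun k hk => mem_erase.mpr ⟨fun h => hK0 (h ▸ hk), mem_univ _⟩))
      refine le_trans (le_of_eq ?_) (single_le_sum (fun _ _ => Nat.zero_le _) (mem_univ (φK k)))
      rw [horb k (φK k) (fun h => hK0 (h ▸ hk)), if_pos ⟨hk, rfl⟩, one_mul, hKf k hk]
  have hf1 : 1 ≤ f := by
    obtain ⟨k, hk⟩ := card_pos.mp (show 0 < K.card by omega)
    rw [← hKf k hk]
    exact degV_pos S _
  have hen : e ≤ n := le_trans (Nat.le_mul_of_pos_right e hf1) (by omega)
  have hp1 : e * t + 1 = p := by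
    have := hp.out.one_le
    rw [he, het]
    exact Nat.sub_add_cancel this
  have ht3 : 3 ≤ t := by
    by_contra h
    have : e * t ≤ e * 2 := Nat.mul_le_mul le_rfl (by omega)
    omega
  -- the product
  set TT : G → ℂ := fun g => (θ : G → ℂ) g * conj ((θ : G → ℂ) g) with hTT
  have hTTc : IsCharacter G TT :=
    Chars.isCharacter_mul (Chars.irr_isCharacter θ) (Chars.isCharacter_star (Chars.irr_isCharacter θ))
  obtain ⟨a, ha⟩ := Chars.isCharacter_exists_nat_decomp hTTc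
  have hcl := Chars.irr_isClassFunction θ
  have hTlin : ∀ i, mN S TT i = ∑ ψ, a ψ * mN S (ψ : G → ℂ) i := by
    intro i
    apply Nat.cast_injective (R := ℂ)
    rw [mN_cast S hTTc]
    conv_lhs => rw [ha]
    rw [mlt_sum, Nat.cast_sum]
    exact sum_congr rfl fun ψ _ => by rw [Nat.cast_mul, mN_cast S (Chars.irr_isCharacter ψ)]
  have ha1 : a (Chars.trivialIrr G) = 1 := by
    apply Nat.cast_injective (R := ℂ)
    rw [← Chars.classInner_sum_smul_irr (fun ψ => (a ψ : ℂ)), ← ha, Nat.cast_one,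
      ← Chars.classInner_irr_self θ]
    simp [classInner, hTT]
  have hT1 : ∀ k, mN S TT (k, Chars.trivialIrr S.V) = ∑ φ, ∑ l, m (l + k) φ * m l φ := by
    intro k
    apply Nat.cast_injective (R := ℂ)
    rw [mN_cast S hTTc, hTT, mlt_mul_conj_one S hcl hcl]
    simp only [Nat.cast_sum, Nat.cast_mul, hm, ← mN_cast S (Chars.irr_isCharacter θ), map_natCast]
  have hsplit : ∀ F : ZMod p → ℕ, ∑ l, F l = F 0 + ∑ l ∈ T₀, F l := fun F =>
    (add_sum_erase univ F (mem_univ 0)).symm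
  have hUN : mN S TT (0, Chars.trivialIrr S.V) = H + e := by
    rw [hT1]
    simp only [add_zero]
    rw [hH, ← hssum, ← sum_add_distrib]
    refine sum_congr rfl fun φ _ => ?_
    rw [hsplit, hsumT2]
    simp only [hh₀, sq]
  set SL := ∑ k ∈ T₀, mN S TT (k, Chars.trivialIrr S.V) with hSL
  have hSLle : SL + (H + e) ≤ H + 2 * h' * e + e * e := by
    have h1 : SL + (H + e) = ∑ φ, (h₀ φ + s φ) ^ 2 := by
      rw [← hUN, hSL, add_comm, ← hsplit fun k => mN S TT (k, Chars.trivialIrr S.V)]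
      simp only [hT1]
      rw [sum_comm]
      refine sum_congr rfl fun φ _ => ?_
      rw [sum_comm, sq, show h₀ φ + s φ = ∑ l, m l φ by rw [hsplit, hsumT], Finset.sum_mul_sum,
        sum_comm (f := fun i j => m i φ * m j φ)]
      exact sum_congr rfl fun l _ => Fintype.sum_equiv (Equiv.addLeft l) _ _ fun k => rfl
    rw [h1, hH]
    have h2 : ∑ φ, s φ ^ 2 ≤ e * e := by
      conv_rhs => rw [← hssum, sum_mul]
      exact sum_le_sum fun φ _ => by
        rw [sq]
        exact Nat.mul_le_mul le_rfl (single_le_sum (fun _ _ => Nat.zero_le _) (mem_univ φ))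
    have h3 : ∑ φ, 2 * h₀ φ * s φ ≤ 2 * h' * e := by
      rw [← hssum, mul_sum]
      exact sum_le_sum fun φ hφ => Nat.mul_le_mul (Nat.mul_le_mul le_rfl (hmax φ hφ)) le_rfl
    calc ∑ φ, (h₀ φ + s φ) ^ 2 = ∑ φ, h₀ φ ^ 2 + ∑ φ, 2 * h₀ φ * s φ + ∑ φ, s φ ^ 2 := by
          rw [← sum_add_distrib, ← sum_add_distrib]
          exact sum_congr rfl fun φ _ => by ring
      _ ≤ _ := by omega
  -- the exceptional constituents
  set one : IrrCharacter S.V := Chars.trivialIrr S.V
  set Z : Finset (IrrCharacter G) := univ.filter fun ψ =>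
    ψ ≠ Chars.trivialIrr G ∧ ψ ∈ P.A ∧ P.δ ψ = 1 ∧ mN S (ψ : G → ℂ) (0, one) = 1 with hZ
  set r := ∑ ψ ∈ Z, a ψ with hr
  have hgood : ∀ ψ : IrrCharacter G, ψ ≠ Chars.trivialIrr G → ψ ∉ Z →
      (p - 1) * mN S (ψ : G → ℂ) (0, one) ≤ 2 * ∑ k ∈ T₀, mN S (ψ : G → ℂ) (k, one) := by
    intro ψ hψ hψZ
    rcases Nat.eq_zero_or_pos (mN S (ψ : G → ℂ) (0, one)) with h0 | h0
    · simp [h0]
    set m0 := mN S (ψ : G → ℂ) (0, one) with hm0
    have hval : ∀ k : ZMod p, (mN S (ψ : G → ℂ) (k, one) : ℤ) = m0 - kv S ψ k := fun k => by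
      rw [kv_eq_mN]; ring
    suffices ((p - 1 : ℕ) : ℤ) * m0 ≤ 2 * (((p - 1 : ℕ) : ℤ) * m0 - ∑ k ∈ T₀, kv S ψ k) by
      have h1 : ((∑ k ∈ T₀, mN S (ψ : G → ℂ) (k, one) : ℕ) : ℤ) =
          ((p - 1 : ℕ) : ℤ) * m0 - ∑ k ∈ T₀, kv S ψ k := by
        rw [Nat.cast_sum, sum_congr rfl fun k _ => hval k, sum_sub_distrib, sum_const, hTc,
          nsmul_eq_mul]
      rw [← h1] at this
      exact_mod_cast this
    by_cases hA : ψ ∈ P.A
    · rw [sum_congr rfl fun k hk => P.kv_A hA (ne_of_mem_erase hk), sum_const, hTc, nsmul_eq_mul]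
      rcases (P.hA ψ hA).1 with h | h <;> rw [h]
      · have : m0 ≠ 1 := fun hh => hψZ (mem_filter.mpr ⟨mem_univ _, hψ, hA, h, hh⟩)
        have h2 : (2 : ℤ) ≤ m0 := by omega
        nlinarith
      · nlinarith
    · by_cases hB : ψ ∈ P.B
      · have hbound : ∑ k ∈ T₀, kv S ψ k ≤ (e : ℤ) := by
          rw [sum_congr rfl fun k hk => P.kv_B hB (ne_of_mem_erase hk), sum_ite, sum_const,
            sum_const_zero, add_zero, nsmul_eq_mul]
          have hc : (T₀.filter fun k => ∃ u ∈ fusion p S.x, P.a ψ * u = k).card ≤ e := by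
            refine le_trans (card_le_card ?_) (card_image_le (f := (P.a ψ * ·)))
            intro k hk
            obtain ⟨u, hu, hu'⟩ := (mem_filter.mp hk).2
            exact mem_image.mpr ⟨u, hu, hu'⟩
          have hc' : ((T₀.filter fun k => ∃ u ∈ fusion p S.x, P.a ψ * u = k).card : ℤ) ≤ e := by
            exact_mod_cast hc
          rcases P.hε with h | h <;> rw [h] <;> linarith
        have h2 : (2 : ℤ) * e ≤ ((p - 1 : ℕ) : ℤ) * m0 := by
          have h3 : 2 * e ≤ (p - 1) * m0 := by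
            rw [← het]
            calc 2 * e = e * 2 * 1 := by ring
              _ ≤ e * t * m0 := Nat.mul_le_mul (Nat.mul_le_mul le_rfl (by omega)) h0
          exact_mod_cast h3
        linarith
      · rw [sum_eq_zero fun k hk => P.kv_O hA hB (ne_of_mem_erase hk), sub_zero]
        nlinarith
  have hI : (p - 1) * (H + e) ≤ 2 * SL + (p - 1) * (1 + r) := by
    have h1 : (p - 1) * (H + e) = ∑ ψ, a ψ * ((p - 1) * mN S (ψ : G → ℂ) (0, one)) := by
      rw [← hUN, hTlin, mul_sum]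
      exact sum_congr rfl fun ψ _ => by ring
    have h2 : 2 * SL = ∑ ψ, a ψ * (2 * ∑ k ∈ T₀, mN S (ψ : G → ℂ) (k, one)) := by
      rw [hSL]
      simp only [hTlin, mul_sum]
      rw [sum_comm]
      exact sum_congr rfl fun ψ _ => sum_congr rfl fun k _ => by ring
    have h3 : (p - 1) * (1 + r) = ∑ ψ, a ψ *
        ((p - 1) * if ψ = Chars.trivialIrr G ∨ ψ ∈ Z then 1 else 0) := by
      simp only [mul_ite, mul_one, mul_zero]
      rw [← sum_filter, filter_or, sum_union, filter_eq', if_pos (mem_univ _), sum_singleton, ha1,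
        filter_mem_eq_inter, univ_inter, mul_add, mul_one, hr, mul_sum]
      · congr 1
        · rw [one_mul]
        · exact sum_congr rfl fun ψ _ => mul_comm _ _
      · rw [disjoint_left]
        intro ψ h h'
        rw [mem_filter] at h h'
        exact (mem_filter.mp h'.2).2.1 h.2
    rw [h1, h2, h3, ← sum_add_distrib]
    refine sum_le_sum fun ψ _ => ?_
    rw [← mul_add]
    refine Nat.mul_le_mul le_rfl ?_
    by_cases hψ : ψ = Chars.trivialIrr G ∨ ψ ∈ Z
    · rw [if_pos hψ]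
      have h4 : mN S (ψ : G → ℂ) (0, one) ≤ 1 := by
        rcases hψ with h5 | h5
        · subst h5
          refine le_of_eq (Nat.cast_injective (R := ℂ) ?_)
          rw [mN_cast S (Chars.irr_isCharacter _), ← profMult_eq_mlt, Nat.cast_one, profMult]
          have hprof : ∀ j, profile S (Chars.trivialIrr G) j = 1 := fun j => by
            simp [profile, avgVal, finsum_eq_sum_of_fintype, Nat.card_eq_fintype_card]
          simp [hprof, hp.out.ne_zero]
        · exact le_of_eq (mem_filter.mp h5).2.2.2.2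
      exact (Nat.mul_le_mul le_rfl h4).trans (Nat.le_add_left _ _)
    · rw [if_neg hψ, mul_zero, add_zero]
      rw [not_or] at hψ
      exact hgood ψ hψ.1 hψ.2
  -- the characters of `V` in the exceptional constituents
  have hZdata : ∀ ψ ∈ Z, a ψ ≠ 0 → ∃ φ : IrrCharacter S.V, t ≤ 2 * degV S φ ∧
      ∀ k ∈ T₀, 1 ≤ mN S (ψ : G → ℂ) (k, φ) := by
    intro ψ hψ haψ
    obtain ⟨-, hψ1, hψA, hδ, hm0⟩ := mem_filter.mp hψ
    obtain ⟨⟨k, φ⟩, hk, hkm⟩ := exists_mN_ne_zero S (hker ψ hψ1)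
    have hk1 : mN S (ψ : G → ℂ) (k, one) = 0 := by
      have h1 : (mN S (ψ : G → ℂ) (k, one) : ℤ) = (mN S (ψ : G → ℂ) (0, one) : ℤ) - P.δ ψ :=
        P.mN_A hψA hk
      rw [hδ, hm0] at h1
      omega
    have hφ : φ ≠ one := fun h => hkm (h ▸ hk1)
    have hconst := mN_const S hidx ψ (P.hA ψ hψA).1 (P.hA ψ hψA).2 hφ
    refine ⟨φ, ?_, fun l _ => by rw [hconst l, ← hconst k]; exact Nat.pos_of_ne_zero hkm⟩
    rw [← hPt]
    refine le_two_mul_degree S P hTI hψA hφ (fun v hv => ?_) hk hk1 hkm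
    have hθv : TT (v : G) = ((n * n : ℕ) : ℂ) := by
      obtain ⟨d, ρ, hρi, hρ⟩ := θ.2
      haveI := hρi
      have hd : (θ : G → ℂ) 1 = d := by rw [← hρ]; simp [Representation.character]
      rw [hn, Nat.cast_inj] at hd
      obtain ⟨c, hc⟩ := Chars.exists_scalar_of_commute ρ (ρ (v : G)) fun h => by
        show ρ (v : G) * ρ h = ρ h * ρ (v : G)
        rw [← map_mul, ← map_mul, mem_center_iff.mp hv h]
      have hnorm := (Chars.norm_char_eq_iff ρ (v : G)).mpr ⟨c, hc⟩
      rw [hρ, Module.finrank_fin_fun, ← hd] at hnorm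
      rw [hTT]
      simp only [Complex.mul_conj, Complex.normSq_eq_norm_sq, hnorm]
      push_cast
      ring
    have hψv : (ψ : G → ℂ) (v : G) = (charDegree (ψ : G → ℂ) : ℂ) := by
      refine eq_one_of_weighted_sum a (fun ξ => (ξ : G → ℂ) (v : G))
        (fun ξ => charDegree (ξ : G → ℂ)) (fun ξ => norm_irr_le ξ _) ?_ haψ
      calc ∑ ξ : IrrCharacter G, (a ξ : ℂ) * (ξ : G → ℂ) (v : G) = TT (v : G) := by
            rw [ha]; simp
        _ = TT 1 := by rw [hθv, hTT]; simp [hn]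
        _ = _ := by rw [ha]; simp [(Chars.charDegree_spec _).2]
    rw [← (Chars.charDegree_spec ψ).2] at hψv
    have h1 := pt_expansion S (Chars.irr_isClassFunction ψ) (0, v)
    have h2 := pt_expansion S (Chars.irr_isClassFunction ψ) (0, 1)
    simp only [pt, xp_zero, one_mul, OneMemClass.coe_one, chr, mul_zero,
      AddChar.map_zero_eq_one, ← mN_cast S (Chars.irr_isCharacter ψ)] at h1 h2
    rw [hψv, h2] at h1
    simp only [degV_cast] at h1
    rw [degV_cast]
    exact eq_one_of_weighted_sum (fun i => mN S (ψ : G → ℂ) i) (fun i => (i.2 : S.V → ℂ) v)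
      (fun i => degV S i.2) (fun i => norm_irr_le i.2 _) h1.symm (i := (k, φ)) hkm
  have hr2 : 2 * r < e := by
    have h1 : (p - 1) * t * r ≤ 2 * (n * n) := by
      have h2 : n * n = ∑ k, ∑ φ, mN S TT (k, φ) * degV S φ := by
        apply Nat.cast_injective (R := ℂ)
        rw [Nat.cast_sum, ← sum_congr rfl fun k _ => pdeg_eq S hTTc k,
          ← apply_one_eq S (Chars.isClassFunction_of_isCharacter hTTc), hTT]
        simp [hn]
      have h3 : ∀ ψ ∈ Z, a ψ * ((p - 1) * t) ≤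
          a ψ * (2 * ∑ k, ∑ φ, mN S (ψ : G → ℂ) (k, φ) * degV S φ) := by
        intro ψ hψ
        rcases Nat.eq_zero_or_pos (a ψ) with h0 | h0
        · simp [h0]
        obtain ⟨φ, hφt, hφm⟩ := hZdata ψ hψ h0.ne'
        refine Nat.mul_le_mul le_rfl ?_
        calc (p - 1) * t ≤ (p - 1) * (2 * degV S φ) := Nat.mul_le_mul le_rfl hφt
          _ = 2 * ∑ k ∈ T₀, 1 * degV S φ := by rw [sum_const, hTc, smul_eq_mul]; ring
          _ ≤ _ := Nat.mul_le_mul le_rfl ((sum_le_sum fun k hk => (Nat.mul_le_mul (hφm k hk)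
              le_rfl).trans (single_le_sum (f := fun φ' => mN S (ψ : G → ℂ) (k, φ') * degV S φ')
                (fun _ _ => Nat.zero_le _) (mem_univ φ))).trans
              (sum_le_sum_of_subset (subset_univ _)))
      calc (p - 1) * t * r = ∑ ψ ∈ Z, a ψ * ((p - 1) * t) := by rw [← sum_mul, hr, mul_comm]
        _ ≤ ∑ ψ ∈ Z, a ψ * (2 * ∑ k, ∑ φ, mN S (ψ : G → ℂ) (k, φ) * degV S φ) := sum_le_sum h3
        _ ≤ ∑ ψ, a ψ * (2 * ∑ k, ∑ φ, mN S (ψ : G → ℂ) (k, φ) * degV S φ) :=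
            sum_le_sum_of_subset (subset_univ _)
        _ = 2 * (n * n) := by
            rw [h2]
            simp only [hTlin, mul_sum, sum_mul]
            conv_rhs => rw [sum_congr rfl fun k _ => sum_comm, sum_comm]
            exact sum_congr rfl fun ψ _ => sum_congr rfl fun k _ =>
              sum_congr rfl fun φ _ => by ring
    have h4 : 2 * n + 1 ≤ p - 1 := by omega
    rw [← het] at h1 h4
    by_contra hc
    have h5 : (2 * n + 1) * (2 * n + 1) ≤ (e * t) * (e * t) := Nat.mul_le_mul h4 h4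
    have h6 : e * t * t * e ≤ e * t * t * (2 * r) := Nat.mul_le_mul le_rfl (by omega)
    nlinarith
  have hr0 : t = 3 ∨ t = 4 → r = 0 := by
    intro ht
    have hf : f = 1 := by
      have h4 : e * f * 2 < e * t := by omega
      have : f * 2 < t := Nat.lt_of_mul_lt_mul_left (by rw [← mul_assoc]; exact h4)
      omega
    refine sum_eq_zero fun ψ hψ => ?_
    by_contra haψ
    obtain ⟨φ, hφt, hφm⟩ := hZdata ψ hψ haψ
    obtain ⟨k, hk, hkK⟩ : ∃ k ∈ T₀, k ∉ K ∪ K.image (- ·) := by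
      refine not_subset.mp fun hsub => ?_
      have h1 := (card_le_card hsub).trans
        ((card_union_le _ _).trans (Nat.add_le_add le_rfl card_image_le))
      rw [hTc, hKc, ← het] at h1
      have : e * 3 ≤ e * t := Nat.mul_le_mul le_rfl ht3
      omega
    rw [mem_union, not_or] at hkK
    have h1 : 1 ≤ mN S TT (k, φ) := by
      rw [hTlin]
      refine le_trans ?_ (single_le_sum (fun _ _ => Nat.zero_le _) (mem_univ ψ))
      exact Nat.one_le_iff_ne_zero.mpr (mul_ne_zero haψ (Nat.one_le_iff_ne_zero.mp (hφm k hk)))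
    have h2 : mN S TT (k, φ) = 0 := by
      apply Nat.cast_injective (R := ℂ)
      rw [mN_cast S hTTc, hTT, mlt_mul_conj S hcl hcl, Nat.cast_zero]
      refine sum_eq_zero fun l _ => sum_eq_zero fun α _ => sum_eq_zero fun β _ => ?_
      rw [← mN_cast S (Chars.irr_isCharacter θ), ← mN_cast S (Chars.irr_isCharacter θ), map_natCast]
      rcases Nat.eq_zero_or_pos (mN S (θ : G → ℂ) (l + k, α)) with h3 | h3
      · simp [h3]
      rcases Nat.eq_zero_or_pos (mN S (θ : G → ℂ) (l, β)) with h4 | h4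
      · simp [h4]
      by_cases hl : l = 0
      · subst hl
        rw [zero_add, horb k α (ne_of_mem_erase hk), if_neg fun h => hkK.1 h.1] at h3
        exact absurd h3 (lt_irrefl _)
      by_cases hlk : l + k = 0
      · rw [horb l β hl, if_neg fun h => hkK.2 (mem_image.mpr
          ⟨l, h.1, (eq_neg_of_add_eq_zero_right hlk).symm⟩)] at h4
        exact absurd h4 (lt_irrefl _)
      simp only [horb _ α hlk] at h3
      simp only [horb _ β hl] at h4
      have hα : degV S α = 1 := by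
        by_cases h : l + k ∈ K ∧ α = φK (l + k)
        · rw [h.2, hKf _ h.1, hf]
        · rw [if_neg h] at h3; exact absurd h3 (lt_irrefl _)
      have hβ : degV S β = 1 := by
        by_cases h : l ∈ K ∧ β = φK l
        · rw [h.2, hKf _ h.1, hf]
        · rw [if_neg h] at h4; exact absurd h4 (lt_irrefl _)
      set F : S.V → ℂ := fun v => (α : S.V → ℂ) v * conj ((β : S.V → ℂ) v)
      have hF1 : F 1 = 1 := by simp [F, degV_cast, hα, hβ]
      have hFc : IsCharacter S.V F := Chars.isCharacter_mul (Chars.irr_isCharacter α)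
        (Chars.isCharacter_star (Chars.irr_isCharacter β))
      obtain ⟨χ, hχ⟩ := Chars.exists_hom_of_degree_one hFc hF1
      have hFi : IsIrrCharacter S.V F := hχ ▸ Chars.isIrrCharacter_of_hom χ
      have hne : (⟨F, hFi⟩ : IrrCharacter S.V) ≠ φ := fun h => by
        have h5 : (φ : S.V → ℂ) 1 = 1 := by rw [← h]; exact hF1
        rw [degV_cast, Nat.cast_eq_one] at h5
        omega
      have h5 := Chars.classInner_irr_of_ne hne
      simp only [F] at h5
      rw [h5, mul_zero]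
    omega
  -- arithmetic
  have hineq : (t : ℤ) * ((H : ℤ) + e - 1 - r) ≤ 4 * (h' : ℤ) + 2 * ((e : ℤ) - 1) := by
    have h1 : ((e : ℤ) * t) * ((H : ℤ) + e) ≤ 2 * (SL : ℤ) + ((e : ℤ) * t) * (1 + r) := by
      rw [← het] at hI
      exact_mod_cast hI
    have h2 : (SL : ℤ) + ((H : ℤ) + e) ≤ (H : ℤ) + 2 * h' * e + e * e := by exact_mod_cast hSLle
    refine le_of_mul_le_mul_left ?_ (show (0 : ℤ) < e by omega)
    linarith
  have hcase : ((5 : ℤ) ≤ t ∧ 2 * (r : ℤ) < e) ∨ (((t : ℤ) = 3 ∨ (t : ℤ) = 4) ∧ (r : ℤ) = 0) := by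
    by_cases ht : t = 3 ∨ t = 4
    · exact Or.inr ⟨by omega, by exact_mod_cast hr0 ht⟩
    · exact Or.inl ⟨by omega, by exact_mod_cast hr2⟩
  rcases arith_final (by exact_mod_cast he1) (by exact_mod_cast hh'H) (Int.natCast_nonneg _) hcase
    hineq with ⟨h1, h2⟩ | ⟨h1, h2, h3⟩
  · -- `x` would be a scalar
    have he1' : e = 1 := by exact_mod_cast h1
    have hH0 : H = 0 := by exact_mod_cast h2
    obtain ⟨k₀, hk₀⟩ := card_eq_one.mp (hKc.trans he1')
    have hother : ∀ k, k ≠ k₀ → pdeg S (θ : G → ℂ) k = 0 := by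
      intro k hk
      rw [pdeg_eq S (Chars.irr_isCharacter θ), sum_eq_zero fun φ _ => ?_, Nat.cast_zero]
      by_cases hk0 : k = 0
      · subst hk0
        have : h₀ φ ^ 2 ≤ H := single_le_sum (f := fun φ => h₀ φ ^ 2) (fun _ _ => Nat.zero_le _)
          (mem_univ φ)
        rw [hH0, Nat.le_zero, pow_eq_zero_iff two_ne_zero] at this
        exact mul_eq_zero_of_left this _
      · rw [horb k φ hk0, if_neg fun h => hk (by simpa [hk₀] using h.1), zero_mul]
    have hxval : (θ : G → ℂ) S.x = (n : ℂ) * ZMod.stdAddChar (k₀ * (1 : ZMod p)) := by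
      rw [← hn, ← xp_one (p := p) (x := S.x), apply_xp_eq S hcl, apply_one_eq S hcl,
        sum_eq_single k₀ (fun k _ hk => by rw [hother k hk, zero_mul]) (by simp),
        sum_eq_single k₀ (fun k _ hk => hother k hk) (by simp)]
    obtain ⟨d, ρ, -, hρ⟩ := θ.2
    have hd : (θ : G → ℂ) 1 = d := by rw [← hρ]; simp [Representation.character]
    rw [hn, Nat.cast_inj] at hd
    obtain ⟨ω, hω⟩ := (Chars.norm_char_eq_iff ρ S.x).mp (by
      rw [hρ, hxval, norm_mul, Complex.norm_natCast, Module.finrank_fin_fun, hd]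
      rw [AddChar.norm_apply, mul_one])
    refine hxc (mem_center_iff.mpr fun g => ?_)
    have h5 : g * S.x * g⁻¹ * S.x⁻¹ = 1 := by
      refine hfaith _ ?_
      rw [← hρ]
      refine (Chars.rep_eq_one_iff ρ _).mp ?_
      rw [map_mul, map_mul, map_mul, hω]
      have h6 : ρ g * ω • LinearMap.id * ρ g⁻¹ = ρ S.x := by
        rw [hω, ← Module.End.one_eq_id, mul_smul_comm, mul_one, smul_mul_assoc, ← map_mul,
          mul_inv_cancel, map_one]
      rw [h6, ← map_mul, mul_inv_cancel, map_one]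
    rw [mul_inv_eq_one, mul_inv_eq_iff_eq_mul] at h5
    exact h5
  · have h2' : h' = 1 := by exact_mod_cast h2
    have h3' : e ≤ 2 := by exact_mod_cast h3
    have h4 : e ≤ e * f := Nat.le_mul_of_pos_right e hf1
    rcases h1 with h1 | h1
    · have ht : t = 3 := by exact_mod_cast h1
      subst ht
      omega
    · have ht : t = 4 := by exact_mod_cast h1
      subst ht
      -- `p = 4 e + 1`
      interval_cases e
      · omega
      · exact absurd (hp1 ▸ hp.out) (by norm_num)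

end Cfsg.Agent.Lib.DefectOne
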