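/-
The orbits of the normalizer on the characters of `V`: the row sums of an irreducible character
are prime to `p` on at most one orbit.
-/
import Mathlib
import Cfsg.Agent.Lib.DefectOne.Congr
import Cfsg.Agent.Lib.Chars.PResidualDegree

set_option autoImplicit false
set_option linter.unusedSectionVars false
set_option linter.style.haveILetI false

namespace Cfsg.Agent.Lib.DefectOne

open scoped ComplexConjugate
open Cfsg Cfsg.Agent.Lib Finset Subgroup
open Cfsg.Agent.Lib.Glauberman (red red_add red_mul red_sum red_natCast red_one red_zero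
  sum_eq_sum_fixed natCast_red_eq_zero exists_isPModular)
open Cfsg.Agent.Lib.Blocks (isIntegral_mem_localRing Residue localRing isPModular_isPrime)
open Cfsg.Agent.Lib.SmallGroups.PrimeChar (xp xp_zero xp_mul xp_add xp_one xp_injective)

variable {G : Type*} [Group G] [Fintype G] {p : ℕ} [hp : Fact p.Prime] (S : Local p G)

noncomputable local instance instFintypeV_orbitSep : Fintype S.V := Fintype.ofFinite _

/-- The sum of the multiplicities of `φ` over the characters of `⟨x⟩`. -/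
noncomputable def rowSum (F : G → ℂ) (φ : IrrCharacter S.V) : ℕ := ∑ k, mN S F (k, φ)

/-- The row of `φ` is not constant. -/
def RowVar (F : G → ℂ) (φ : IrrCharacter S.V) : Prop := ∃ k, mN S F (k, φ) ≠ mN S F (0, φ)

open scoped Classical in
/-- The orbit of `φ`. -/
noncomputable def phiOrbit (φ : IrrCharacter S.V) : Finset (IrrCharacter S.V) :=
  (nset S).image fun g => conjIrr S g φ

theorem mem_phiOrbit {φ ψ : IrrCharacter S.V} :
    ψ ∈ phiOrbit S φ ↔ ∃ g, Nrm S g ∧ conjIrr S g φ = ψ := by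
  simp [phiOrbit, mem_nset]

theorem nrm_one : Nrm S (1 : G) := by simp [Nrm]

theorem conjIrr_one (φ : IrrCharacter S.V) : conjIrr S (1 : G) φ = φ :=
  (conjIrr_centralizer S (one_mem _) φ).1

theorem conjIrr_mul {g h : G} (hg : Nrm S g) (hh : Nrm S h) (φ : IrrCharacter S.V) :
    conjIrr S (g * h) φ = conjIrr S h (conjIrr S g φ) :=
  congrArg Prod.snd (act_mul S hg hh (0, φ))

theorem self_mem_phiOrbit (φ : IrrCharacter S.V) : φ ∈ phiOrbit S φ :=
  (mem_phiOrbit S).mpr ⟨1, nrm_one S, conjIrr_one S φ⟩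

theorem phiOrbit_eq {φ ψ : IrrCharacter S.V} (h : ψ ∈ phiOrbit S φ) :
    phiOrbit S ψ = phiOrbit S φ := by
  obtain ⟨g, hg, rfl⟩ := (mem_phiOrbit S).mp h
  ext ξ
  simp only [mem_phiOrbit]
  constructor
  · rintro ⟨k, hk, rfl⟩
    exact ⟨g * k, (expo_mul S hg hk).1, conjIrr_mul S hg hk φ⟩
  · rintro ⟨k, hk, rfl⟩
    refine ⟨g⁻¹ * k, (expo_mul S (nrm_inv S hg) hk).1, ?_⟩
    rw [← conjIrr_mul S hg (expo_mul S (nrm_inv S hg) hk).1, mul_inv_cancel_left]

theorem mN_conjIrr {F : G → ℂ} (hF : IsClassFunction G F) {g : G} (hg : Nrm S g) (k : ZMod p)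
    (φ : IrrCharacter S.V) :
    mN S F (k * expo S g, conjIrr S g φ) = mN S F (k, φ) := by
  show ⌊(mlt S F (act S g (k, φ))).re⌋₊ = _
  rw [mlt_act S hF hg]
  rfl

theorem rowSum_conjIrr {F : G → ℂ} (hF : IsClassFunction G F) {g : G} (hg : Nrm S g)
    (φ : IrrCharacter S.V) : rowSum S F (conjIrr S g φ) = rowSum S F φ := by
  refine (Fintype.sum_equiv (Equiv.mulRight₀ (expo S g) (expo_ne_zero S hg)) _ _ fun k => ?_).symm
  exact (mN_conjIrr S hF hg k φ).symm

theorem rowSum_of_mem {F : G → ℂ} (hF : IsClassFunction G F) {φ ψ : IrrCharacter S.V}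
    (h : ψ ∈ phiOrbit S φ) : rowSum S F ψ = rowSum S F φ := by
  obtain ⟨g, hg, rfl⟩ := (mem_phiOrbit S).mp h
  exact rowSum_conjIrr S hF hg φ

theorem rowVar_of_mem {F : G → ℂ} (hF : IsClassFunction G F) {φ ψ : IrrCharacter S.V}
    (h : ψ ∈ phiOrbit S φ) (hv : RowVar S F φ) : RowVar S F ψ := by
  obtain ⟨g, hg, rfl⟩ := (mem_phiOrbit S).mp h
  obtain ⟨k, hk⟩ := hv
  refine ⟨k * expo S g, ?_⟩
  rw [mN_conjIrr S hF hg, ← mN_conjIrr S hF hg 0 φ, zero_mul] at *
  exact hk

theorem apply_V_eq (χ : IrrCharacter G) (v : S.V) :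
    (χ : G → ℂ) (v : G) =
      ∑ φ : IrrCharacter S.V, (rowSum S (χ : G → ℂ) φ : ℂ) * (φ : S.V → ℂ) v := by
  have h := pt_expansion S (Chars.irr_isClassFunction χ) (0, v)
  simp only [pt, xp_zero, one_mul] at h
  rw [h, Fintype.sum_prod_type, sum_comm]
  refine sum_congr rfl fun φ _ => ?_
  rw [rowSum, Nat.cast_sum, sum_mul]
  refine sum_congr rfl fun k _ => ?_
  rw [mN_cast S (Chars.irr_isCharacter χ), chr, mul_zero, AddChar.map_zero_eq_one, one_mul]

theorem not_sq_dvd_card (hidx : ¬ p ∣ (centralizer ({S.x} : Set G)).index) :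
    ¬ p ^ 2 ∣ Nat.card G := by
  intro h
  rw [← (centralizer ({S.x} : Set G)).card_mul_index, card_centralizer_x S, sq, mul_assoc,
    Nat.mul_dvd_mul_iff_left hp.out.pos] at h
  rcases (Nat.Prime.dvd_mul hp.out).mp h with h3 | h3
  · exact S.coprime h3
  · exact hidx h3

theorem not_dvd_orderOf_V (v : S.V) : ¬ p ∣ orderOf (v : G) :=
  fun h => S.coprime (h.trans (Subgroup.orderOf_dvd_natCard _ v.2))

/-- The fusion in `V` is controlled by the normalizer of `⟨x⟩`. -/
theorem fusion_V (hidx : ¬ p ∣ (centralizer ({S.x} : Set G)).index) {v u : S.V}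
    (h : IsConj (v : G) u) : ∃ g, ∃ hg : Nrm S g, conjV S hg v = u := by
  classical
  obtain ⟨a, ha⟩ := isConj_iff.mp h
  set C := centralizer ({(u : G)} : Set G)
  have hx : S.x ∈ C := mem_centralizer_singleton_iff.mpr (S.commute u u.2).eq
  have hy : a * S.x * a⁻¹ ∈ C := by
    refine mem_centralizer_singleton_iff.mpr ?_
    rw [← ha]
    simp only [← mul_assoc, inv_mul_cancel_right]
    rw [mul_assoc a S.x, (S.commute v v.2).eq, ← mul_assoc a (v : G)]
  have hord : ∀ z : C, orderOf (z : G) = p →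
      Nat.card (zpowers z) = p ^ (Nat.card C).factorization p := by
    intro z hz
    rw [Nat.card_zpowers, ← Subgroup.orderOf_coe, hz]
    have h1 : p ∣ Nat.card C := hz ▸ Subgroup.orderOf_dvd_natCard _ z.2
    have hne : Nat.card C ≠ 0 := Nat.card_pos.ne'
    have h3 : 1 ≤ (Nat.card C).factorization p := hp.out.factorization_pos_of_dvd hne h1
    have h4 : ¬ 2 ≤ (Nat.card C).factorization p := fun h => not_sq_dvd_card S hidx
      (((hp.out.pow_dvd_iff_le_factorization hne).mpr h).trans (Subgroup.card_subgroup_dvd_card C))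
    rw [show (Nat.card C).factorization p = 1 by omega, pow_one]
  have hyord : orderOf (a * S.x * a⁻¹) = p := by
    rw [show a * S.x * a⁻¹ = MulAut.conj a S.x from rfl, MulEquiv.orderOf_eq, S.order_x]
  let P1 : Sylow p C := Sylow.ofCard _ (hord ⟨_, hy⟩ hyord)
  let P2 : Sylow p C := Sylow.ofCard _ (hord ⟨_, hx⟩ S.order_x)
  obtain ⟨c, hc⟩ := MulAction.exists_smul_eq C P1 P2
  have h2 : c * ⟨_, hy⟩ * c⁻¹ ∈ zpowers (⟨S.x, hx⟩ : C) := by
    have h3 : c * (⟨_, hy⟩ : C) * c⁻¹ ∈ (c • P1 : Sylow p C).toSubgroup := by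
      rw [Sylow.coe_subgroup_smul]
      exact Subgroup.smul_mem_pointwise_smul (⟨_, hy⟩ : C) (MulAut.conj c) _ (mem_zpowers _)
    rw [hc] at h3
    exact h3
  obtain ⟨j, hj⟩ := mem_zpowers_iff.mp h2
  have hj' := congrArg (Subtype.val : C → G) hj
  push_cast at hj'
  refine ⟨(c : G) * a, mem_zpowers_iff.mpr ⟨j, ?_⟩, Subtype.ext ?_⟩
  · rw [hj']
    group
  · show (c : G) * a * v * ((c : G) * a)⁻¹ = u
    have hcu : (c : G) * u = u * c := mem_centralizer_singleton_iff.mp c.2
    calc (c : G) * a * v * ((c : G) * a)⁻¹ = (c : G) * (a * v * a⁻¹) * (c : G)⁻¹ := by group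
      _ = (c : G) * u * (c : G)⁻¹ := by rw [ha]
      _ = _ := by rw [hcu, mul_inv_cancel_right]

open scoped Classical in
/-- The elements of `V` conjugate in the group to `v`. -/
noncomputable def fusSet (v : S.V) : Finset S.V := univ.filter fun u => IsConj (v : G) u

theorem mem_fusSet {v u : S.V} : u ∈ fusSet S v ↔ IsConj (v : G) u := by simp [fusSet]

variable {M : Ideal AlgInt} [M.IsPrime]

theorem card_conj_red (hidx : ¬ p ∣ (centralizer ({S.x} : Set G)).index) (hM : IsPModular p M)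
    (v : S.V) : (fusSet S v).card ≠ (0 : Residue M) ∧
      ∀ (χ : IrrCharacter G) (w : S.V),
        red M (centralChar (χ : G → ℂ) (v : G)) * red M ((χ : G → ℂ) (w : G)) =
          ∑ u ∈ fusSet S v, red M ((χ : G → ℂ) ((u * w : S.V) : G)) := by
  classical
  haveI : CharP (Residue M) p := ⟨natCast_red_eq_zero hM⟩
  set K := {g : G // IsConj (v : G) g}
  let σ : Equiv.Perm K :=
    { toFun := fun κ => ⟨S.x * κ * S.x⁻¹, κ.2.trans (isConj_iff.mpr ⟨S.x, rfl⟩)⟩
      invFun := fun κ => ⟨S.x⁻¹ * κ * S.x, κ.2.trans (isConj_iff.mpr ⟨S.x⁻¹, by simp⟩)⟩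
      left_inv := fun κ => Subtype.ext (by group)
      right_inv := fun κ => Subtype.ext (by group) }
  have hσn : ∀ n : ℕ, ∀ κ : K, ((σ ^ n) κ : G) = S.x ^ n * κ * (S.x ^ n)⁻¹ := by
    intro n
    induction n with
    | zero => simp
    | succ n ih =>
      intro κ
      rw [pow_succ', Equiv.Perm.mul_apply]
      show S.x * ((σ ^ n) κ : G) * S.x⁻¹ = _
      rw [ih, pow_succ']
      group
  have hσp : σ ^ p = 1 := Equiv.ext fun κ => Subtype.ext (by rw [hσn, S.x_pow_p]; simp)
  set F := univ.filter fun κ : K => σ κ = κ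
  have hF : ∀ κ ∈ F, ((κ : G)) ∈ S.V := by
    intro κ hκ
    have h1 : S.x * (κ : G) * S.x⁻¹ = κ := congrArg Subtype.val (mem_filter.mp hκ).2
    refine mem_V_of_regular S (mul_inv_eq_iff_eq_mul.mp h1).symm ?_
    obtain ⟨c, hc⟩ := isConj_iff.mp κ.2
    rw [← hc, show c * (v : G) * c⁻¹ = MulAut.conj c (v : G) from rfl, MulEquiv.orderOf_eq]
    exact not_dvd_orderOf_V S v
  have hFsum : ∀ f : G → Residue M, ∑ κ ∈ F, f κ = ∑ u ∈ fusSet S v, f (u : G) := fun f => by
    refine sum_bij' (fun κ hκ => (⟨κ.1, hF κ hκ⟩ : S.V))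
      (fun u hu => (⟨u.1, (mem_fusSet S).mp hu⟩ : K)) (fun κ _ => (mem_fusSet S).mpr κ.2)
      (fun u hu => mem_filter.mpr ⟨mem_univ _, Subtype.ext ?_⟩) (fun _ _ => rfl) (fun _ _ => rfl)
      (fun _ _ => rfl)
    show S.x * (u : G) * S.x⁻¹ = u
    rw [(S.commute u u.2).eq, mul_inv_cancel_right]
  refine ⟨?_, fun χ w => ?_⟩
  · have h1 := sum_eq_sum_fixed p σ hσp (fun _ => (1 : Residue M)) fun _ => rfl
    rw [hFsum fun _ => 1] at h1
    simp only [sum_const, nsmul_one, card_univ] at h1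
    rw [← h1, ← Nat.card_eq_fintype_card, Ne, natCast_red_eq_zero hM, Chars.card_conjClass_eq_index]
    exact not_dvd_index_of_mem S hidx (mem_centralizer_singleton_iff.mpr (S.commute v v.2).eq)
  · have hL : ∀ g, (χ : G → ℂ) g ∈ localRing M := fun g =>
      isIntegral_mem_localRing (Chars.irr_isIntegral χ g)
    have hinvar : ∀ κ : K, red M ((χ : G → ℂ) (((σ κ : K) : G) * (w : G))) =
        red M ((χ : G → ℂ) ((κ : G) * (w : G))) := by
      intro κ
      refine congrArg (red M) ?_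
      show (χ : G → ℂ) (S.x * κ * S.x⁻¹ * (w : G)) = _
      rw [mul_assoc _ S.x⁻¹, ((S.commute w w.2).inv_left).eq, ← mul_assoc,
        show S.x * (κ : G) * (w : G) = S.x * ((κ : G) * w) by group]
      exact Chars.irr_isClassFunction χ _ _
    rw [← red_mul (isIntegral_mem_localRing (Blocks.centralChar_isIntegral χ _)) (hL _),
      centralChar_mul, red_sum univ (fun κ _ => hL _),
      sum_eq_sum_fixed p σ hσp (fun κ : K => red M ((χ : G → ℂ) ((κ : G) * (w : G)))) hinvar,
      hFsum fun g => red M ((χ : G → ℂ) (g * (w : G)))]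
    rfl

/-- The convolution of two irreducible characters. -/
theorem irr_conv {H : Type*} [Group H] [Fintype H] (ψ ψ' : IrrCharacter H) (g : H) :
    (ψ : H → ℂ) 1 * ∑ k : H, (ψ : H → ℂ) k⁻¹ * (ψ' : H → ℂ) (k * g) =
      if ψ = ψ' then (Nat.card H : ℂ) * (ψ : H → ℂ) g else 0 := by
  classical
  obtain ⟨d, ρ, hirr, hρ⟩ := ψ'.2
  haveI := hirr
  obtain ⟨c, hc⟩ := Chars.exists_scalar_of_commute ρ (Chars.classSumEnd ρ (ψ : H → ℂ))
    (Chars.classSumEnd_comm ρ (Chars.irr_isClassFunction ψ))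
  have htr := congrArg (LinearMap.trace ℂ _) hc
  rw [Chars.trace_classSumEnd, hρ, Chars.classInner_irr, map_smul, LinearMap.trace_one,
    smul_eq_mul] at htr
  have hdeg : (ψ' : H → ℂ) 1 = (Module.finrank ℂ (Fin d → ℂ) : ℂ) := by
    rw [← hρ]; simp [Representation.character]
  rw [← hdeg] at htr
  have h1 : LinearMap.trace ℂ _ (ρ g * Chars.classSumEnd ρ (ψ : H → ℂ)) =
      c * (ψ' : H → ℂ) g := by
    rw [hc, mul_smul_comm, mul_one, map_smul, smul_eq_mul, ← hρ]
    rfl
  have h2 : LinearMap.trace ℂ _ (ρ g * Chars.classSumEnd ρ (ψ : H → ℂ)) =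
      ∑ k : H, (ψ : H → ℂ) k⁻¹ * (ψ' : H → ℂ) (k * g) := by
    rw [Chars.classSumEnd, mul_sum, map_sum]
    refine Fintype.sum_equiv (Equiv.inv H) _ _ fun k => ?_
    rw [mul_smul_comm, map_smul, ← map_mul, smul_eq_mul, ← hρ, Equiv.inv_apply, inv_inv]
    congr 1
    show ρ.character (g * k⁻¹) = _
    rw [hρ, ← Chars.irr_isClassFunction ψ' (g * k⁻¹) k⁻¹]
    congr 1
    group
  rw [← h2, h1]
  split_ifs at htr ⊢ with h
  · subst h
    linear_combination -(ψ : H → ℂ) g * htr
  · rw [mul_zero] at htr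
    rcases mul_eq_zero.mp htr.symm with h3 | h3
    · rw [h3, zero_mul, mul_zero]
    · exact absurd h3 (Chars.irr_apply_one_ne_zero ψ')

set_option maxHeartbeats 1000000 in
/-- Outside one orbit the row sums are multiples of `p`. -/
theorem dvd_rowSum_of_not_mem (hidx : ¬ p ∣ (centralizer ({S.x} : Set G)).index)
    (χ : IrrCharacter G) {φ φ' : IrrCharacter S.V} (hR : ¬ p ∣ rowSum S (χ : G → ℂ) φ)
    (hφ' : φ' ∉ phiOrbit S φ) : p ∣ rowSum S (χ : G → ℂ) φ' := by
  classical
  obtain ⟨M, hM⟩ := exists_isPModular hp.out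
  haveI := isPModular_isPrime hM
  set R := fun ξ => rowSum S (χ : G → ℂ) ξ
  have hcl := Chars.irr_isClassFunction χ
  set a : S.V → ℂ := fun v => ∑ ξ ∈ phiOrbit S φ, (ξ : S.V → ℂ) 1 * (ξ : S.V → ℂ) v⁻¹
  have haL : ∀ v, a v ∈ localRing M := fun v => isIntegral_mem_localRing
    (IsIntegral.sum _ fun ξ _ => (Chars.irr_isIntegral ξ 1).mul (Chars.irr_isIntegral ξ _))
  have hχL : ∀ g, (χ : G → ℂ) g ∈ localRing M := fun g =>
    isIntegral_mem_localRing (Chars.irr_isIntegral χ g)
  -- invariance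
  have hinv : ∀ v u : S.V, IsConj (v : G) u → a u = a v := by
    intro v u h
    obtain ⟨g, hg, rfl⟩ := fusion_V S hidx h
    refine sum_bij (fun ξ _ => conjIrr S g ξ) ?_ ?_ ?_ ?_
    · intro ξ hξ
      rw [← phiOrbit_eq S hξ]
      exact (mem_phiOrbit S).mpr ⟨g, hg, rfl⟩
    · intro ξ _ η _ he
      refine Subtype.ext (funext fun w => ?_)
      have := congrArg (fun ζ : IrrCharacter S.V => (ζ : S.V → ℂ) ((conjV S hg).symm w)) he
      simpa [conjIrr_apply S hg] using this
    · intro η hη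
      refine ⟨conjIrr S g⁻¹ η, ?_, ?_⟩
      · rw [← phiOrbit_eq S hη]
        exact (mem_phiOrbit S).mpr ⟨g⁻¹, nrm_inv S hg, rfl⟩
      · rw [← conjIrr_mul S (nrm_inv S hg) hg, inv_mul_cancel, conjIrr_one]
    · intro ξ _
      rw [conjIrr_apply S hg, conjIrr_apply S hg, map_one, map_inv]
  -- the exact identity
  have hA : ∀ w : S.V, ∑ v : S.V, a v * (χ : G → ℂ) ((v * w : S.V) : G) =
      (Nat.card S.V : ℂ) * ∑ ξ ∈ phiOrbit S φ, (R ξ : ℂ) * (ξ : S.V → ℂ) w := by
    intro w
    rw [mul_sum, sum_congr rfl fun v _ => by rw [apply_V_eq S χ, mul_sum], sum_comm]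
    rw [← sum_subset (subset_univ (phiOrbit S φ))]
    · refine sum_congr rfl fun η hη => ?_
      simp only [a, sum_mul]
      rw [sum_comm, sum_eq_single η]
      · have h := irr_conv η η w
        rw [if_pos rfl, mul_sum] at h
        calc _ = (R η : ℂ) * ∑ k : S.V, (η : S.V → ℂ) 1 * ((η : S.V → ℂ) k⁻¹ * (η : S.V → ℂ) (k * w)) := by
              rw [mul_sum]; exact sum_congr rfl fun k _ => by ring
          _ = _ := by rw [h]; ring
      · intro ξ _ hne
        have h := irr_conv ξ η w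
        rw [if_neg hne, mul_sum] at h
        calc _ = (R η : ℂ) * ∑ k : S.V, (ξ : S.V → ℂ) 1 * ((ξ : S.V → ℂ) k⁻¹ * (η : S.V → ℂ) (k * w)) := by
              rw [mul_sum]; exact sum_congr rfl fun k _ => by ring
          _ = _ := by rw [h, mul_zero]
      · exact fun h => absurd hη h
    · intro η _ hη
      simp only [a, sum_mul]
      rw [sum_comm]
      refine sum_eq_zero fun ξ hξ => ?_
      have h := irr_conv ξ η w
      rw [if_neg (fun he : ξ = η => hη (he ▸ hξ)), mul_sum] at h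
      calc _ = (R η : ℂ) * ∑ k : S.V, (ξ : S.V → ℂ) 1 * ((ξ : S.V → ℂ) k⁻¹ * (η : S.V → ℂ) (k * w)) := by
            rw [mul_sum]; exact sum_congr rfl fun k _ => by ring
        _ = _ := by rw [h, mul_zero]
  -- the scalar
  set lam : Residue M := ∑ v : S.V, red M (a v) * red M (centralChar (χ : G → ℂ) (v : G)) *
    ((fusSet S v).card : Residue M)⁻¹
  have hmod : ∀ w : S.V, lam * red M ((χ : G → ℂ) (w : G)) =
      red M (∑ v : S.V, a v * (χ : G → ℂ) ((v * w : S.V) : G)) := by
    intro w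
    rw [red_sum univ (fun v _ => mul_mem (haL v) (hχL _)), sum_mul]
    have h1 : ∀ v : S.V, red M (a v) * red M (centralChar (χ : G → ℂ) (v : G)) *
        ((fusSet S v).card : Residue M)⁻¹ * red M ((χ : G → ℂ) (w : G)) =
        ∑ u ∈ fusSet S v, ((fusSet S u).card : Residue M)⁻¹ *
          red M (a u * (χ : G → ℂ) ((u * w : S.V) : G)) := by
      intro v
      rw [mul_assoc _ _ (red M _), mul_comm _⁻¹, ← mul_assoc, mul_assoc (red M (a v)),
        (card_conj_red S hidx hM v).2 χ w, mul_sum, sum_mul]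
      refine sum_congr rfl fun u hu => ?_
      have hu' := (mem_fusSet S).mp hu
      have hfs : fusSet S u = fusSet S v := by
        ext z
        simp only [mem_fusSet]
        exact ⟨fun h => hu'.trans h, fun h => hu'.symm.trans h⟩
      rw [red_mul (haL u) (hχL _), hinv v u hu', hfs]
      ring
    rw [sum_congr rfl fun v _ => h1 v, sum_comm' (s' := fun u => fusSet S u) (t' := univ)
      (fun v u => by simp only [mem_univ, true_and, and_true, mem_fusSet]
                     exact ⟨fun h => h.symm, fun h => h.symm⟩)]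
    refine sum_congr rfl fun u _ => ?_
    rw [sum_const, nsmul_eq_mul, ← mul_assoc, mul_inv_cancel₀ (card_conj_red S hidx hM u).1,
      one_mul]
  -- pairing with a character of `V`
  have hpair : ∀ η : IrrCharacter S.V, lam * ((Nat.card S.V : Residue M) * (R η : Residue M)) =
      (Nat.card S.V : Residue M) * ((Nat.card S.V : Residue M) *
        if η ∈ phiOrbit S φ then (R η : Residue M) else 0) := by
    intro η
    have hor : ∀ ξ : IrrCharacter S.V, ∑ w : S.V, (ξ : S.V → ℂ) w * conj ((η : S.V → ℂ) w) =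
        if ξ = η then (Nat.card S.V : ℂ) else 0 := by
      intro ξ
      have h2 := Chars.classInner_irr ξ η
      rw [classInner, inv_mul_eq_iff_eq_mul₀ (Nat.cast_ne_zero.mpr Nat.card_pos.ne')] at h2
      rw [h2]
      split_ifs <;> simp
    have hηL : ∀ w, conj ((η : S.V → ℂ) w) ∈ localRing M := fun w =>
      isIntegral_mem_localRing (Chars.isIntegral_conj (Chars.irr_isIntegral η w))
    have hAL : ∀ w : S.V, (∑ v : S.V, a v * (χ : G → ℂ) ((v * w : S.V) : G)) ∈ localRing M :=
      fun w => sum_mem fun v _ => mul_mem (haL v) (hχL _)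
    have e1 : ∑ w : S.V, (χ : G → ℂ) (w : G) * conj ((η : S.V → ℂ) w) =
        ((Nat.card S.V * R η : ℕ) : ℂ) := by
      rw [sum_congr rfl fun w _ => by rw [apply_V_eq S χ, sum_mul], sum_comm]
      simp only [mul_assoc, ← mul_sum, hor, mul_ite, mul_zero, sum_ite_eq', mem_univ, if_true]
      push_cast
      ring
    have e2 : ∑ w : S.V, (∑ v : S.V, a v * (χ : G → ℂ) ((v * w : S.V) : G)) *
        conj ((η : S.V → ℂ) w) =
        ((Nat.card S.V * (Nat.card S.V * if η ∈ phiOrbit S φ then R η else 0) : ℕ) : ℂ) := by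
      rw [sum_congr rfl fun w _ => by rw [hA, mul_assoc, sum_mul], ← mul_sum, sum_comm]
      simp only [mul_assoc, ← mul_sum, hor, mul_ite, mul_zero, sum_ite_eq']
      split_ifs <;> push_cast <;> ring
    have r1 := congrArg (red M) e1
    have r2 := congrArg (red M) e2
    rw [red_natCast, red_sum univ (fun w _ => mul_mem (hχL _) (hηL w))] at r1
    rw [red_natCast, red_sum univ (fun w _ => mul_mem (hAL w) (hηL w))] at r2
    rw [← Nat.cast_mul, ← r1, mul_sum]
    refine Eq.trans ?_ (r2.trans ?_)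
    · refine sum_congr rfl fun w _ => ?_
      rw [red_mul (hχL _) (hηL w), red_mul (hAL w) (hηL w), ← mul_assoc, hmod]
    · push_cast
      rfl
  have hV : (Nat.card S.V : Residue M) ≠ 0 := fun h => S.coprime ((natCast_red_eq_zero hM _).mp h)
  have hlam : lam ≠ 0 := by
    intro h
    have h1 := hpair φ
    rw [h, zero_mul, if_pos (self_mem_phiOrbit S φ)] at h1
    rcases mul_eq_zero.mp h1.symm with h2 | h2
    · exact hV h2
    · rcases mul_eq_zero.mp h2 with h3 | h3
      · exact hV h3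
      · exact hR ((natCast_red_eq_zero hM _).mp h3)
  have h1 := hpair φ'
  rw [if_neg hφ', mul_zero, mul_zero] at h1
  exact (natCast_red_eq_zero hM _).mp (((mul_eq_zero.mp h1).resolve_left hlam |> mul_eq_zero.mp).resolve_left hV)

end Cfsg.Agent.Lib.DefectOne
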