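/-
Counting the irreducible characters of degree prime to `p` through the non-constant rows, and the
local data of the normalizer of `⟨x⟩`.
-/
import Mathlib
import Cfsg.Agent.Lib.DefectOne.OrbitSep
import Cfsg.Agent.Lib.KGV.Basic

set_option autoImplicit false
set_option linter.unusedSectionVars false
set_option linter.style.haveILetI false

namespace Cfsg.Agent.Lib.DefectOne

open Cfsg Cfsg.Agent.Lib Finset Subgroup
open Cfsg.Agent.Lib.SmallGroups.PrimeChar (xp fusion mem_fusion ne_zero_of_mem_fusion)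

variable {G : Type*} [Group G] [Fintype G] {p : ℕ} [hp : Fact p.Prime] (S : Local p G)

noncomputable local instance instFintypeV_countPPrime : Fintype S.V := Fintype.ofFinite _

open scoped Classical in
/-- The order of the automorphism group induced on `⟨x⟩` by the stabilizer of `φ`. -/
noncomputable def stExp (φ : IrrCharacter S.V) : ℕ :=
  (((nset S).filter fun g => conjIrr S g φ = φ).image (expo S)).card

open scoped Classical in
/-- The characters with a non-constant row at `φ`. -/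
noncomputable def varSet (φ : IrrCharacter S.V) : Finset (IrrCharacter G) :=
  univ.filter fun χ => RowVar S (χ : G → ℂ) φ

/-- What is needed from the structure theorem. -/
def StructCount : Prop := ∀ φ : IrrCharacter S.V,
  (varSet S φ).card = stExp S φ + (p - 1) / stExp S φ ∧
    ∀ χ ∈ varSet S φ, ¬ p ∣ rowSum S (χ : G → ℂ) φ

theorem mem_varSet {φ : IrrCharacter S.V} {χ : IrrCharacter G} :
    χ ∈ varSet S φ ↔ RowVar S (χ : G → ℂ) φ := by simp [varSet]

theorem card_phiOrbit_mul_stExp (φ : IrrCharacter S.V) :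
    (phiOrbit S φ).card * stExp S φ = (fusion p S.x).card := by
  classical
  set St := (nset S).filter fun g => conjIrr S g φ = φ with hSt
  have hcardSt : St.card = stExp S φ * cN S := by
    rw [card_eq_sum_card_fiberwise (f := expo S) (t := St.image (expo S))
      (fun g hg => mem_image_of_mem _ hg), sum_congr rfl (g := fun _ => cN S) fun u hu => ?_,
      sum_const, smul_eq_mul]
    · rfl
    obtain ⟨g, hg, rfl⟩ := mem_image.mp hu
    obtain ⟨hg1, hg2⟩ := mem_filter.mp hg
    rw [← card_act_fiber S φ (expo S g) φ ⟨g, (mem_nset S).mp hg1, rfl, hg2⟩, hSt, filter_filter]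
    congr 1
    exact filter_congr fun g' _ => and_comm
  have h : (nset S).card = (phiOrbit S φ).card * St.card := by
    rw [card_eq_sum_card_fiberwise (f := fun g => conjIrr S g φ) (t := phiOrbit S φ)
      (fun g hg => (mem_phiOrbit S).mpr ⟨g, (mem_nset S).mp hg, rfl⟩),
      sum_congr rfl (g := fun _ => St.card) fun ψ hψ => ?_, sum_const, smul_eq_mul]
    obtain ⟨g₀, hg₀, rfl⟩ := (mem_phiOrbit S).mp hψ
    refine card_bij' (fun g _ => g * g₀⁻¹) (fun g _ => g * g₀) ?_ ?_
      (fun g _ => inv_mul_cancel_right g g₀) (fun g _ => mul_inv_cancel_right g g₀)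
    · intro g hg
      obtain ⟨h1, h2⟩ := mem_filter.mp hg
      have h1' := (mem_nset S).mp h1
      have h2' : conjIrr S g φ = conjIrr S g₀ φ := h2
      refine mem_filter.mpr ⟨(mem_nset S).mpr (expo_mul S h1' (nrm_inv S hg₀)).1, ?_⟩
      rw [conjIrr_mul S h1' (nrm_inv S hg₀), h2', ← conjIrr_mul S hg₀ (nrm_inv S hg₀),
        mul_inv_cancel, conjIrr_one]
    · intro g hg
      obtain ⟨h1, h2⟩ := mem_filter.mp hg
      have h1' := (mem_nset S).mp h1
      refine mem_filter.mpr ⟨(mem_nset S).mpr (expo_mul S h1' hg₀).1, ?_⟩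
      show conjIrr S (g * g₀) φ = conjIrr S g₀ φ
      rw [conjIrr_mul S h1' hg₀, h2]
  rw [card_nset, hcardSt, ← mul_assoc (phiOrbit S φ).card] at h
  exact (Nat.eq_of_mul_eq_mul_right (Nat.mul_pos hp.out.pos Nat.card_pos) h).symm

theorem not_dvd_card_phiOrbit (φ : IrrCharacter S.V) : ¬ p ∣ (phiOrbit S φ).card := by
  intro h
  have h1 : p ∣ (fusion p S.x).card := card_phiOrbit_mul_stExp S φ ▸ dvd_mul_of_dvd_left h _
  have h2 : (fusion p S.x).card ≤ (univ.erase (0 : ZMod p)).card := card_le_card fun u hu =>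
    mem_erase.mpr ⟨ne_zero_of_mem_fusion S.order_x hu, mem_univ _⟩
  rw [card_erase_of_mem (mem_univ _), card_univ, ZMod.card] at h2
  have h3 : 0 < (fusion p S.x).card :=
    card_pos.mpr ⟨1, Cfsg.Agent.Lib.SmallGroups.PrimeChar.one_mem_fusion⟩
  have := Nat.le_of_dvd h3 h1
  have := hp.out.pos
  omega

theorem degree_eq_sum_rowSum (χ : IrrCharacter G) :
    charDegree (χ : G → ℂ) =
      ∑ φ : IrrCharacter S.V, rowSum S (χ : G → ℂ) φ * charDegree (φ : S.V → ℂ) := by
  have h := apply_V_eq S χ 1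
  rw [OneMemClass.coe_one, (Chars.charDegree_spec χ).2,
    sum_congr rfl fun φ _ => by rw [(Chars.charDegree_spec φ).2]] at h
  exact_mod_cast h

theorem exists_rowVar_of_not_dvd {χ : IrrCharacter G} (h : ¬ p ∣ charDegree (χ : G → ℂ)) :
    ∃ φ, RowVar S (χ : G → ℂ) φ := by
  by_contra hc
  push Not at hc
  refine h (degree_eq_sum_rowSum S χ ▸ Finset.dvd_sum fun φ _ => Dvd.dvd.mul_right ?_ _)
  have hφ : ∀ k, mN S (χ : G → ℂ) (k, φ) = mN S (χ : G → ℂ) (0, φ) := by
    simpa [RowVar] using hc φ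
  rw [rowSum, sum_congr rfl fun k _ => hφ k, sum_const, card_univ, ZMod.card, smul_eq_mul]
  exact dvd_mul_right _ _

theorem not_dvd_degree_of_rowVar (hidx : ¬ p ∣ (centralizer ({S.x} : Set G)).index)
    (hst : StructCount S) {χ : IrrCharacter G} {φ : IrrCharacter S.V}
    (hv : RowVar S (χ : G → ℂ) φ) :
    ¬ p ∣ charDegree (χ : G → ℂ) ∧ ∀ ψ, RowVar S (χ : G → ℂ) ψ ↔ ψ ∈ phiOrbit S φ := by
  classical
  have hR := (hst φ).2 χ ((mem_varSet S).mpr hv)
  have hcl := Chars.irr_isClassFunction χ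
  refine ⟨fun h => ?_, fun ψ => ⟨fun hψ => ?_, fun hψ => rowVar_of_mem S hcl hψ hv⟩⟩
  · rw [degree_eq_sum_rowSum S χ, ← sum_add_sum_compl (phiOrbit S φ), Nat.dvd_add_left
      (Finset.dvd_sum fun ψ hψ => Dvd.dvd.mul_right
        (dvd_rowSum_of_not_mem S hidx χ hR (mem_compl.mp hψ)) _)] at h
    rw [sum_congr rfl (g := fun _ => rowSum S (χ : G → ℂ) φ * charDegree (φ : S.V → ℂ))
      fun ψ hψ => ?_, sum_const, smul_eq_mul] at h
    · rcases (Nat.Prime.dvd_mul hp.out).mp h with h1 | h1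
      · exact not_dvd_card_phiOrbit S φ h1
      rcases (Nat.Prime.dvd_mul hp.out).mp h1 with h2 | h2
      · exact hR h2
      · obtain ⟨-, hdeg⟩ := Chars.charDegree_spec φ
        obtain ⟨d, -, hd1, hd2⟩ := Chars.irr_degree_dvd_card φ
        rw [hd1, Nat.cast_inj] at hdeg
        exact S.coprime (h2.trans (hdeg ▸ hd2))
    · rw [rowSum_of_mem S hcl hψ]
      congr 1
      obtain ⟨g, hg, rfl⟩ := (mem_phiOrbit S).mp hψ
      simp [charDegree, conjIrr_apply S hg]
  · by_contra hne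
    exact (hst ψ).2 χ ((mem_varSet S).mpr hψ) (dvd_rowSum_of_not_mem S hidx χ hR hne)

/-- The number of characters of degree prime to `p`. -/
theorem card_not_dvd_degree (hidx : ¬ p ∣ (centralizer ({S.x} : Set G)).index)
    (hst : StructCount S) :
    (Nat.card {χ : IrrCharacter G // ¬ p ∣ charDegree (χ : G → ℂ)} : ℚ) =
      ∑ φ : IrrCharacter S.V, ((stExp S φ + (p - 1) / stExp S φ : ℕ) : ℚ) /
        ((phiOrbit S φ).card : ℚ) := by
  classical
  have h1 : ∀ φ, ((stExp S φ + (p - 1) / stExp S φ : ℕ) : ℚ) / ((phiOrbit S φ).card : ℚ) =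
      ∑ χ : IrrCharacter G,
        if RowVar S (χ : G → ℂ) φ then ((phiOrbit S φ).card : ℚ)⁻¹ else 0 := fun φ => by
    rw [← sum_filter, sum_const, ← (hst φ).1, nsmul_eq_mul, div_eq_mul_inv]
    simp only [varSet]
  rw [sum_congr rfl fun φ _ => h1 φ, sum_comm, Nat.card_eq_fintype_card, Fintype.card_subtype,
    Finset.natCast_card_filter]
  refine sum_congr rfl fun χ _ => ?_
  by_cases hdeg : p ∣ charDegree (χ : G → ℂ)
  · rw [if_neg (not_not_intro hdeg)]
    exact (sum_eq_zero fun φ _ => if_neg fun hv =>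
      (not_dvd_degree_of_rowVar S hidx hst hv).1 hdeg).symm
  · rw [if_pos hdeg]
    obtain ⟨φ₀, hv₀⟩ := exists_rowVar_of_not_dvd S hdeg
    have h2 := (not_dvd_degree_of_rowVar S hidx hst hv₀).2
    rw [← sum_filter, sum_congr (s₂ := phiOrbit S φ₀) (g := fun _ => ((phiOrbit S φ₀).card : ℚ)⁻¹)
      (by ext ψ; simp [h2]) fun ψ hψ => by rw [phiOrbit_eq S hψ], sum_const, nsmul_eq_mul,
      mul_inv_cancel₀]
    exact Nat.cast_ne_zero.mpr (card_pos.mpr ⟨φ₀, self_mem_phiOrbit S φ₀⟩).ne'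

/-! ### The normalizer of `⟨x⟩` -/

/-- The normalizer of `⟨x⟩`. -/
abbrev NX : Subgroup G := normalizer ((zpowers S.x : Subgroup G) : Set G)

noncomputable local instance : Fintype (NX S) := Fintype.ofFinite _

theorem nrm_iff {g : G} : Nrm S g ↔ g ∈ NX S := by
  constructor
  · intro hg
    rw [mem_normalizer_iff]
    intro y
    constructor
    · intro hy
      obtain ⟨k, rfl⟩ := mem_zpowers_iff.mp hy
      rw [← conj_zpow]
      exact zpow_mem hg k
    · intro hy
      obtain ⟨k, hk⟩ := mem_zpowers_iff.mp hy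
      have h := zpow_mem (nrm_inv S hg) k
      rw [conj_zpow, hk] at h
      have e : g⁻¹ * (g * y * g⁻¹) * g⁻¹⁻¹ = y := by group
      rwa [e] at h
  · intro hg
    exact (mem_normalizer_iff.mp hg S.x).mp (mem_zpowers _)

theorem V_le_NX : S.V ≤ NX S := fun v hv => (nrm_iff S).mp (by
  show v * S.x * v⁻¹ ∈ zpowers S.x
  rw [← (S.commute v hv).eq, mul_inv_cancel_right]
  exact mem_zpowers _)

theorem x_mem_NX : S.x ∈ NX S := le_normalizer (mem_zpowers S.x)

theorem mem_zpowers_NX {y : NX S} :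
    y ∈ zpowers (⟨S.x, x_mem_NX S⟩ : NX S) ↔ (y : G) ∈ zpowers S.x := by
  simp only [mem_zpowers_iff]
  exact ⟨fun ⟨k, hk⟩ => ⟨k, by rw [← hk]; simp⟩,
    fun ⟨k, hk⟩ => ⟨k, Subtype.ext (by rw [← hk]; simp)⟩⟩

/-- The local data inside the normalizer. -/
def localNX : Local p (NX S) where
  x := ⟨S.x, x_mem_NX S⟩
  V := S.V.subgroupOf (NX S)
  u := ⟨S.u, (nrm_iff S).mp S.u_mem⟩
  order_x := by rw [← Subgroup.orderOf_coe]; exact S.order_x
  commute v hv := Subtype.ext (S.commute v.1 hv).eq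
  coprime := by
    rw [Nat.card_congr (subgroupOfEquivOfLe (V_le_NX S)).toEquiv]
    exact S.coprime
  factor c hc := by
    obtain ⟨i, v, hv, h⟩ := S.factor c.1 (congrArg Subtype.val hc.eq)
    exact ⟨i, ⟨v, V_le_NX S hv⟩, hv, Subtype.ext h⟩
  norm_V g hg v hv := S.norm_V g.1 ((mem_zpowers_NX S).mp hg) v.1 hv
  u_mem := (mem_zpowers_NX S).mpr S.u_mem
  cover g hg := by
    obtain ⟨i, hi⟩ := S.cover g.1 ((mem_zpowers_NX S).mp hg)
    refine ⟨i, Subtype.ext ?_⟩
    simpa using hi.eq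
  u_pow := Subtype.ext (by simpa using S.u_pow.eq)

/-- The characters of `V` inside the normalizer. -/
noncomputable def irrNX : IrrCharacter S.V ≃ IrrCharacter (localNX S).V :=
  Chars.irrCongr (subgroupOfEquivOfLe (V_le_NX S))

theorem nrm_NX (g : NX S) : Nrm (localNX S) g ∧ Nrm S (g : G) :=
  ⟨(mem_zpowers_NX S).mpr ((nrm_iff S).mpr g.2), (nrm_iff S).mpr g.2⟩

theorem expo_NX (g : NX S) : expo (localNX S) g = expo S (g : G) := by
  refine (expo_eq (localNX S) (u := expo S (g : G)) (Subtype.ext ?_)).2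
  have h := expo_spec S (nrm_NX S g).2
  simpa [xp, localNX] using h

theorem conjIrr_NX (g : NX S) (φ : IrrCharacter S.V) :
    conjIrr (localNX S) g (irrNX S φ) = irrNX S (conjIrr S (g : G) φ) := by
  refine Subtype.ext (funext fun v => ?_)
  rw [conjIrr_apply (localNX S) (nrm_NX S g).1]
  show (φ : S.V → ℂ) _ = (conjIrr S (g : G) φ : S.V → ℂ) _
  rw [conjIrr_apply S (nrm_NX S g).2]
  rfl

theorem phiOrbit_NX (φ : IrrCharacter S.V) :
    (phiOrbit (localNX S) (irrNX S φ)).card = (phiOrbit S φ).card := by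
  classical
  rw [← card_image_of_injective (phiOrbit S φ) (irrNX S).injective]
  congr 1
  ext ξ
  simp only [mem_phiOrbit, mem_image]
  constructor
  · rintro ⟨g, -, rfl⟩
    exact ⟨_, ⟨g.1, (nrm_NX S g).2, rfl⟩, (conjIrr_NX S g φ).symm⟩
  · rintro ⟨_, ⟨g, hg, rfl⟩, rfl⟩
    exact ⟨⟨g, (nrm_iff S).mp hg⟩, (nrm_NX S _).1, conjIrr_NX S _ φ⟩

theorem stExp_NX (φ : IrrCharacter S.V) : stExp (localNX S) (irrNX S φ) = stExp S φ := by
  classical
  unfold stExp
  congr 1
  ext u
  simp only [mem_image, mem_filter, mem_nset]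
  constructor
  · rintro ⟨g, ⟨-, hg⟩, rfl⟩
    refine ⟨g.1, ⟨(nrm_NX S g).2, (irrNX S).injective ?_⟩, (expo_NX S g).symm⟩
    rw [← conjIrr_NX, hg]
  · rintro ⟨g, ⟨hg, hgc⟩, rfl⟩
    exact ⟨⟨g, (nrm_iff S).mp hg⟩,
      ⟨(nrm_NX S _).1, by rw [conjIrr_NX]; exact congrArg (irrNX S) hgc⟩, expo_NX S _⟩

theorem not_dvd_index_NX (hidx : ¬ p ∣ (centralizer ({S.x} : Set G)).index) :
    ¬ p ∣ (centralizer ({(localNX S).x} : Set (NX S))).index := by
  intro h
  apply not_sq_dvd_card S hidx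
  refine dvd_trans ?_ (Subgroup.card_subgroup_dvd_card (NX S))
  rw [← (centralizer ({(localNX S).x} : Set (NX S))).card_mul_index,
    card_centralizer_x (localNX S), sq, mul_assoc]
  exact Nat.mul_dvd_mul_left _ (h.trans (dvd_mul_left _ _))

theorem not_dvd_degree_NX (hidx : ¬ p ∣ (centralizer ({S.x} : Set G)).index)
    (χ : IrrCharacter (NX S)) : ¬ p ∣ charDegree (χ : NX S → ℂ) := by
  intro h
  set Z := (zpowers S.x).subgroupOf (NX S)
  have hab : ∀ a ∈ Z, ∀ b ∈ Z, a * b = b * a := by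
    intro a ha b hb
    obtain ⟨i, hi⟩ := mem_zpowers_iff.mp (mem_subgroupOf.mp ha)
    obtain ⟨j, hj⟩ := mem_zpowers_iff.mp (mem_subgroupOf.mp hb)
    exact Subtype.ext (by push_cast; rw [← hi, ← hj, ← zpow_add, ← zpow_add, add_comm])
  haveI : Z.Normal := Subgroup.normal_in_normalizer
  obtain ⟨d, -, hd, hdvd⟩ := KGV.exists_degree_dvd_index Z hab χ
  have hdeg : charDegree (χ : NX S → ℂ) = d := by simp [charDegree, hd]
  apply not_sq_dvd_card S hidx
  refine dvd_trans ?_ (Subgroup.card_subgroup_dvd_card (NX S))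
  rw [← Z.card_mul_index, Nat.card_congr (subgroupOfEquivOfLe le_normalizer).toEquiv,
    Nat.card_zpowers, S.order_x, sq]
  exact Nat.mul_dvd_mul_left _ (h.trans (hdeg ▸ hdvd))

/-- The characters of degree prime to `p` are as many as the classes of the normalizer. -/
theorem card_not_dvd_degree_eq_classes
    (hidx : ¬ p ∣ (centralizer ({S.x} : Set G)).index)
    (hst : StructCount S) (hstN : StructCount (localNX S)) :
    Nat.card {χ : IrrCharacter G // ¬ p ∣ charDegree (χ : G → ℂ)} =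
      Nat.card (ConjClasses (NX S)) := by
  classical
  have hG := card_not_dvd_degree S hidx hst
  have hN := card_not_dvd_degree (localNX S) (not_dvd_index_NX S hidx) hstN
  rw [Nat.card_congr (Equiv.subtypeUnivEquiv (not_dvd_degree_NX S hidx)),
    Chars.card_irrCharacter] at hN
  have heq : (Nat.card {χ : IrrCharacter G // ¬ p ∣ charDegree (χ : G → ℂ)} : ℚ) =
      (Nat.card (ConjClasses (NX S)) : ℚ) := by
    rw [hG, hN]
    exact Fintype.sum_equiv (irrNX S) _ _ fun φ => by rw [phiOrbit_NX, stExp_NX]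
  exact_mod_cast heq

end Cfsg.Agent.Lib.DefectOne
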