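/-
The structure of the principal block when a Sylow subgroup has order `p`.
-/
import Mathlib
import Cfsg.Agent.Lib.DefectOne.Principal

set_option autoImplicit false
set_option linter.unusedSectionVars false
set_option linter.style.haveILetI false

namespace Cfsg.Agent.Lib.DefectOne

open Cfsg Cfsg.Agent.Lib Finset Subgroup
open Cfsg.Agent.Lib.Blocks
open Cfsg.Agent.Lib.SmallGroups.PrimeChar (xp fusion centralizer_xp xp_zero xp_one xp_injective)

universe u

variable {G : Type u} [Group G] [Fintype G] {p : ℕ} [hp : Fact p.Prime]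

theorem exists_principal {M : Ideal AlgInt} (hM : IsPModular p M) (P : Sylow p G)
    (hP : Nat.card P = p) (e : ℕ)
    (he : (centralizer ((P : Subgroup G) : Set G)).relIndex
      (normalizer ((P : Subgroup G) : Set G)) = e) :
    ∃ (A B : Finset (IrrCharacter G)) (δ : IrrCharacter G → ℤ) (ε : ℤ),
      principalBlock M G = (A : Set (IrrCharacter G)) ∪ B ∧ Disjoint A B ∧ A.card = e ∧
      B.card = (p - 1) / e ∧
      (∀ χ ∈ A, (δ χ = 1 ∨ δ χ = -1) ∧ (charDegree (χ : G → ℂ) : ℤ) ≡ δ χ [ZMOD p] ∧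
        ∀ x : G, x ∈ (P : Subgroup G) → x ≠ 1 →
          ∀ y : G, y ∈ centralizer ((P : Subgroup G) : Set G) → ¬ p ∣ orderOf y →
            (χ : G → ℂ) (x * y) = (δ χ : ℂ)) ∧
      (ε = 1 ∨ ε = -1) ∧
      (∀ θ ∈ B, (charDegree (θ : G → ℂ) : ℤ) ≡ ε * (e : ℤ) [ZMOD p]) ∧
      ∀ θ ∈ B, ∀ g : G, ¬ p ∣ orderOf g →
        (ε : ℂ) * (θ : G → ℂ) g = ∑ χ ∈ A, (δ χ : ℂ) * (χ : G → ℂ) g := by
  classical
  haveI := isPModular_isPrime hM
  obtain ⟨x, hx, hx1⟩ : ∃ x ∈ (P : Subgroup G), x ≠ 1 := by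
    refine (Subgroup.ne_bot_iff_exists_ne_one.mp fun h => hp.out.ne_one ?_).elim
      fun a ha => ⟨a.1, a.2, fun h => ha (Subtype.ext h)⟩
    rw [← hP, ← Subgroup.card_bot (G := G), ← h]
  obtain ⟨S, rfl, hV, hreg⟩ := exists_local P hP hx hx1
  have hidx := not_dvd_centralizer_index P hP hx hx1
  have hef : (fusion p S.x).card = e := by rw [← relIndex_centralizer P hP hx hx1, he]
  obtain ⟨A, B, δ, ε, a, hdisj, hA, hB, hε, hprA, hprB, hrest, hrel⟩ :=
    exists_structure S hidx (t := (p - 1) / e)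
      (by rw [hef]; exact Nat.mul_div_cancel' (hef ▸ card_fusion_dvd S))
  have hone : (1 : ZMod p) ≠ 0 := one_ne_zero
  have hmemA : ∀ χ ∈ A, χ ∈ principalBlock M G := by
    intro χ hχ
    rw [mem_principalBlock_iff S hM hV hidx χ hone, (hprA χ hχ).2 1 hone]
    rcases (hprA χ hχ).1 with h | h <;> simp [h]
  have hmemB : ∀ χ ∈ B, χ ∈ principalBlock M G := by
    intro χ hχ
    rw [mem_principalBlock_iff S hM hV hidx χ hone]
    intro h0
    -- otherwise every profile of `χ` would vanish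
    have hall : ∀ j : ZMod p, j ≠ 0 → profile S χ j = 0 := by
      intro j hj
      by_contra hne
      exact (mem_principalBlock_iff S hM hV hidx χ hone).mp
        ((mem_principalBlock_iff S hM hV hidx χ hj).mpr hne) h0
    have hnz : ∃ j : ZMod p, j ≠ 0 ∧ profile S χ j ≠ 0 := by
      by_contra! hz
      have hs : ∀ j : ZMod p, j ≠ 0 →
          ∑ u ∈ fusion p S.x, ZMod.stdAddChar (a χ * u * j) = (0 : ℂ) := by
        intro j hj
        have h1 := (hprB χ hχ).2 j hj
        rw [hz j hj] at h1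
        rcases hε with h | h <;> simp [h] at h1 <;> first | exact h1 | exact h1.symm
      have htot : ∑ j ∈ (univ : Finset (ZMod p)).erase 0,
          ∑ u ∈ fusion p S.x, ZMod.stdAddChar (a χ * u * j) = (0 : ℂ) :=
        sum_eq_zero fun j hj => hs j (ne_of_mem_erase hj)
      rw [sum_comm, sum_congr rfl fun u hu => by
        rw [sum_erase_eq_sub (mem_univ _), sum_congr rfl fun j _ => by rw [mul_comm _ j],
          AddChar.sum_mulShift (a χ * u) (ZMod.isPrimitive_stdAddChar p),
          if_neg (mul_ne_zero (hprB χ hχ).1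
            (Cfsg.Agent.Lib.SmallGroups.PrimeChar.ne_zero_of_mem_fusion S.order_x hu)),
          Nat.cast_zero, mul_zero, AddChar.map_zero_eq_one, zero_sub]] at htot
      simp only [sum_const, nsmul_eq_mul, mul_neg, mul_one, neg_eq_zero, Nat.cast_eq_zero,
        card_eq_zero] at htot
      exact Finset.notMem_empty (1 : ZMod p)
        (htot ▸ Cfsg.Agent.Lib.SmallGroups.PrimeChar.one_mem_fusion)
    obtain ⟨j, hj, hne⟩ := hnz
    exact hne (hall j hj)
  have hblock : principalBlock M G = (A : Set (IrrCharacter G)) ∪ B := by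
    ext χ
    constructor
    · intro hχ
      by_contra h
      simp only [Set.mem_union, Finset.mem_coe, not_or] at h
      exact (mem_principalBlock_iff S hM hV hidx χ hone).mp hχ (hrest χ h.1 h.2 1 hone)
    · rintro (h | h)
      exacts [hmemA χ h, hmemB χ h]
  refine ⟨A, B, δ, ε, hblock, hdisj, hA.trans hef, hB, fun χ hχ => ⟨(hprA χ hχ).1, ?_, ?_⟩, hε, ?_,
    hrel⟩
  · have h := memLocalIdeal_apply_sub_degree S hM χ hone
    rw [← profile_eq_apply S hV hM (hmemA χ hχ) hone, (hprA χ hχ).2 1 hone] at h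
    rw [Int.modEq_iff_dvd, ← memLocalIdeal_intCast_iff hM]
    push_cast
    exact h
  · intro z hz hz1 y hy hyreg
    obtain ⟨hPz, -⟩ := sylow_eq_zpowers P hP hx hx1
    rw [hPz, ← mem_powers_iff_mem_zpowers] at hz
    obtain ⟨n, rfl⟩ := (Submonoid.mem_powers_iff _ _).mp hz
    have hn : xp p S.x (n : ZMod p) = S.x ^ n := by
      show S.x ^ (n : ZMod p).val = _
      rw [ZMod.val_natCast, S.x_pow_mod]
    have hn0 : (n : ZMod p) ≠ 0 := fun h => hz1 (by rw [← hn, h, xp_zero])
    have hyV : y ∈ S.V := hreg y (centralizer_sylow P hP hx hx1 ▸ hy) hyreg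
    rw [← hn, apply_coset S hV hM (hmemA χ hχ) hn0 hyV,
      ← profile_eq_apply S hV hM (hmemA χ hχ) hn0, (hprA χ hχ).2 _ hn0]
  · intro θ hθ
    have h := memLocalIdeal_apply_sub_degree S hM θ hone
    rw [← profile_eq_apply S hV hM (hmemB θ hθ) hone, (hprB θ hθ).2 1 hone] at h
    rw [Int.modEq_iff_dvd, ← memLocalIdeal_intCast_iff hM]
    have hsum : MemLocalIdeal M
        (∑ u ∈ fusion p S.x, (ZMod.stdAddChar (a θ * u * 1) - 1 : ℂ)) := by
      refine memLocalIdeal_sum _ _ fun u _ => memLocalIdeal_sub_one_of_pow_eq_one hM (k := 1) ?_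
      rw [pow_one, ← AddChar.map_nsmul_eq_pow, nsmul_eq_mul, ZMod.natCast_self, zero_mul,
        AddChar.map_zero_eq_one]
    have h2 := memLocalIdeal_sub h
      (memLocalIdeal_mul_left (x := (ε : ℂ)) (intCast_mem_localRing (M := M) ε) hsum)
    convert h2 using 1
    rw [sum_sub_distrib, sum_const, nsmul_eq_mul, mul_one, hef]
    push_cast
    ring

end Cfsg.Agent.Lib.DefectOne
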