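/-
A group with a faithful character of degree less than `(p - 1) / 2` normalizes each subgroup of order
`p`, when `p ^ 2` does not divide the group order (Brauer).
-/
import Mathlib
import Cfsg.Agent.Lib.DefectOne.SmallFaithful

set_option autoImplicit false
set_option linter.unusedSectionVars false
set_option linter.style.haveILetI false

namespace Cfsg.Agent.Lib.DefectOne

open scoped ComplexConjugate
open Cfsg Cfsg.Agent.Lib Finset Subgroup
open Cfsg.Agent.Lib.SmallGroups.PrimeChar (xp xp_one xp_mul xp_zero xp_injective)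

universe u

variable {G : Type u} [Group G] [Finite G] {p : ℕ} [hp : Fact p.Prime] (S : Local p G)

/-- A `p`-element of order dividing `p` normalizing `⟨x⟩` lies in it. -/
theorem mem_zpowers_of_normalizing {y : G} (hy : y ^ p = 1) (hn : y * S.x * y⁻¹ ∈ zpowers S.x) :
    y ∈ zpowers S.x := by
  classical
  haveI : Fintype G := Fintype.ofFinite G
  obtain ⟨u, hu⟩ := (mem_zpowers_iff_xp S.order_x).mp hn
  have hpow : ∀ i : ℕ, y ^ i * S.x * (y ^ i)⁻¹ = xp p S.x (u ^ i) := by
    intro i
    induction i with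
    | zero => simp [xp_one]
    | succ i ih =>
      rw [pow_succ', pow_succ', ← xp_conj_pow S.x y S.order_x hu.symm, ← ih]
      group
  have h1 := hpow p
  rw [hy, one_mul, inv_one, mul_one, ZMod.pow_card] at h1
  rw [← h1, eq_mul_inv_iff_mul_eq] at hu
  obtain ⟨i, v, hv, rfl⟩ := S.factor y hu.symm
  have hcom : Commute (S.x ^ i) v := (S.commute v hv).pow_left i
  rw [hcom.mul_pow, ← pow_mul, mul_comm i p, pow_mul, S.x_pow_p, one_pow, one_mul] at hy
  have hv1 : v = 1 := by
    have h2 : orderOf v ∣ p := orderOf_dvd_of_pow_eq_one hy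
    rcases (Nat.dvd_prime hp.out).mp h2 with h3 | h3
    · exact orderOf_eq_one_iff.mp h3
    · exact absurd ((dvd_of_eq h3.symm).trans (Subgroup.orderOf_dvd_natCard _ hv)) S.coprime
  rw [hv1, mul_one]
  exact pow_mem (mem_zpowers _) _

/-- The kernel of a character. -/
theorem exists_kernel {χ : G → ℂ} (hχ : IsCharacter G χ) :
    ∃ K : Subgroup G, K.Normal ∧ ∀ g, g ∈ K ↔ χ g = χ 1 := by
  obtain ⟨d, ρ, rfl⟩ := hχ
  refine ⟨MonoidHom.ker ρ, inferInstance, fun g => ?_⟩
  rw [MonoidHom.mem_ker, Chars.rep_eq_one_iff]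

/-- The theorem, in the form suited to induction. -/
theorem normalizes_aux (p : ℕ) [hp : Fact p.Prime] (N : ℕ) :
    ∀ (G : Type u) [Group G] [Finite G], Nat.card G ≤ N → ∀ (χ : G → ℂ) (n : ℕ),
      IsCharacter G χ → χ 1 = n → 2 * n + 1 < p → (∀ g : G, χ g = χ 1 → g = 1) →
      ∀ x : G, orderOf x = p → ¬ p ^ 2 ∣ Nat.card G → ∀ g : G, g * x * g⁻¹ ∈ zpowers x := by
  induction N with
  | zero => intro G _ _ h; exact absurd h (by have := Nat.card_pos (α := G); omega)
  | succ N ih =>
    intro G _ _ hN χ n hχ hn hsmall hfaith x hx hsq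
    classical
    cases nonempty_fintype G
    obtain ⟨S, rfl⟩ := exists_localData hx hsq
    have hidx := not_dvd_index_centralizer hx hsq
    -- the statement for proper subgroups
    have hsub : ∀ H : Subgroup G, H ≠ ⊤ → S.x ∈ H → ∀ g ∈ H, g * S.x * g⁻¹ ∈ zpowers S.x := by
      intro H hH hxH g hg
      have hlt : Nat.card H < Nat.card G := by
        refine lt_of_le_of_ne (Nat.le_of_dvd Nat.card_pos H.card_subgroup_dvd_card) fun h => hH ?_
        exact Subgroup.eq_top_of_card_eq H h
      have h := ih H (by omega) (fun a => χ a) n (Chars.isCharacter_comp H.subtype hχ) hn hsmall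
        (fun a ha => Subtype.ext (hfaith a ha)) ⟨S.x, hxH⟩
        (by rw [← Subgroup.orderOf_coe]; exact S.order_x)
        (fun h => hsq (h.trans H.card_subgroup_dvd_card)) ⟨g, hg⟩
      obtain ⟨k, hk⟩ := mem_zpowers_iff.mp h
      exact mem_zpowers_iff.mpr ⟨k, congrArg Subtype.val hk⟩
    by_contra hall
    push Not at hall
    obtain ⟨g₀, hg₀⟩ := hall
    -- some constituent does not kill the commutator
    set c := g₀ * S.x * g₀⁻¹ * S.x * (g₀ * S.x * g₀⁻¹)⁻¹ * S.x⁻¹ with hc
    have hy : (g₀ * S.x * g₀⁻¹) ^ p = 1 := by rw [conj_pow, S.x_pow_p]; group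
    have hc1 : c ≠ 1 := by
      intro h
      refine hg₀ (mem_zpowers_of_normalizing S hy ?_)
      rw [hc, mul_inv_eq_one] at h
      rw [h]
      exact mem_zpowers _
    obtain ⟨a, ha⟩ := Chars.isCharacter_exists_nat_decomp hχ
    obtain ⟨ψ, hψa, hψc⟩ : ∃ ψ : IrrCharacter G, a ψ ≠ 0 ∧ (ψ : G → ℂ) c ≠ (ψ : G → ℂ) 1 := by
      by_contra h
      push Not at h
      refine hc1 (hfaith c ?_)
      rw [ha]
      simp only [Finset.sum_apply, Pi.smul_apply, smul_eq_mul]
      refine sum_congr rfl fun ψ _ => ?_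
      rcases eq_or_ne (a ψ) 0 with h0 | h0
      · simp [h0]
      · rw [h ψ h0]
    obtain ⟨hd0, hd⟩ := Chars.charDegree_spec ψ
    set d := charDegree (ψ : G → ℂ)
    have hdn : d ≤ n := by
      have h1 : n = ∑ ξ : IrrCharacter G, a ξ * charDegree (ξ : G → ℂ) := by
        apply Nat.cast_injective (R := ℂ)
        rw [← hn, ha]
        push_cast
        simp [(Chars.charDegree_spec _).2]
      rw [h1]
      exact (Nat.le_mul_of_pos_left _ (Nat.pos_of_ne_zero hψa)).trans
        (single_le_sum (f := fun ξ => a ξ * charDegree (ξ : G → ℂ)) (fun _ _ => Nat.zero_le _)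
          (mem_univ ψ))
    obtain ⟨K, hKn, hK⟩ := exists_kernel (Chars.irr_isCharacter ψ)
    have hcK : c ∉ K := fun h => hψc ((hK c).mp h)
    have hxK : S.x ∉ K := by
      intro h
      refine hcK ?_
      have h1 : g₀ * S.x * g₀⁻¹ ∈ K := hKn.conj_mem _ h _
      exact mul_mem (mul_mem (mul_mem h1 h) (inv_mem h1)) (inv_mem h)
    rcases eq_or_ne K ⊥ with hbot | hbot
    · -- a faithful irreducible constituent
      subst hbot
      have hfθ : ∀ g : G, (ψ : G → ℂ) g = (ψ : G → ℂ) 1 → g = 1 := fun g h =>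
        Subgroup.mem_bot.mp ((hK g).mpr h)
      have hxc : S.x ∉ center G := fun h => hg₀ (by
        rw [mem_center_iff.mp h g₀, mul_inv_cancel_right]; exact mem_zpowers _)
      refine false_of_small S hd (by omega) hfθ hidx ?_ ?_ hxc
      · intro v hv hvz g hg
        have hCne : centralizer ({v} : Set G) ≠ ⊤ := by
          intro h
          refine hvz (mem_center_iff.mpr fun b => ?_)
          exact mem_centralizer_singleton_iff.mp (h ▸ Subgroup.mem_top b)
        have hxC : S.x ∈ centralizer ({v} : Set G) :=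
          mem_centralizer_singleton_iff.mpr (S.commute v hv).eq
        -- `g⁻¹ x g` centralizes `v`
        have hy' : (g⁻¹ * S.x * g) ^ p = 1 := by
          have : g⁻¹ * S.x * g = g⁻¹ * S.x * g⁻¹⁻¹ := by rw [inv_inv]
          rw [this, conj_pow, S.x_pow_p]; group
        have hyC : g⁻¹ * S.x * g ∈ centralizer ({v} : Set G) := by
          rw [mem_centralizer_singleton_iff]
          have h1 := (S.commute _ hg).eq
          calc g⁻¹ * S.x * g * v = g⁻¹ * (S.x * (g * v * g⁻¹)) * g := by group
            _ = g⁻¹ * ((g * v * g⁻¹) * S.x) * g := by rw [h1]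
            _ = _ := by group
        have h2 := mem_zpowers_of_normalizing S hy' (hsub _ hCne hxC _ hyC)
        have h3 : Nrm S g⁻¹ := by
          show g⁻¹ * S.x * g⁻¹⁻¹ ∈ zpowers S.x
          rwa [inv_inv]
        have h4 := nrm_inv S h3
        rwa [inv_inv] at h4
      · intro ξ hξ hxξ
        obtain ⟨L, hLn, hL⟩ := exists_kernel (Chars.irr_isCharacter ξ)
        have hLne : L ≠ ⊤ := by
          intro h
          apply hξ
          by_contra hne
          have h1 := Chars.classInner_irr_of_ne hne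
          have hconst : ∀ a : G, (ξ : G → ℂ) a = (ξ : G → ℂ) 1 := fun a =>
            (hL a).mp (h ▸ Subgroup.mem_top a)
          rw [classInner, sum_congr rfl (g := fun _ => (ξ : G → ℂ) 1) fun a _ => by
            simp [hconst a], sum_const, card_univ, ← Nat.card_eq_fintype_card, nsmul_eq_mul,
            inv_mul_cancel_left₀ (Nat.cast_ne_zero.mpr Nat.card_pos.ne')] at h1
          exact Chars.irr_apply_one_ne_zero ξ h1
        have hxL : S.x ∈ L := (hL _).mpr hxξ
        exact hg₀ (mem_zpowers_of_normalizing S hy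
          (hsub L hLne hxL _ (hLn.conj_mem _ hxL g₀)))
    · -- a proper quotient
      haveI := hKn
      haveI : Fintype (G ⧸ K) := Fintype.ofFinite _
      have hlt : Nat.card (G ⧸ K) < Nat.card G := by
        have h1 := K.card_eq_card_quotient_mul_card_subgroup
        have h2 : 1 < Nat.card K := K.one_lt_card_iff_ne_bot.mpr hbot
        have h3 : 0 < Nat.card (G ⧸ K) := Nat.card_pos
        rw [h1]
        nlinarith
      obtain ⟨ψ', hψ'⟩ := Chars.exists_irr_quotient K ψ fun a ha => (hK a).mp ha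
      have hx' : orderOf (S.x : G ⧸ K) = p :=
        orderOf_eq_prime (by rw [← QuotientGroup.mk_pow, S.x_pow_p, QuotientGroup.mk_one])
          (by rwa [Ne, QuotientGroup.eq_one_iff])
      have h := ih (G ⧸ K) (by omega) (ψ' : G ⧸ K → ℂ) d (Chars.irr_isCharacter ψ')
        (by rw [← QuotientGroup.mk_one, hψ' 1, hd]) (by omega)
        (fun q hq => by
          obtain ⟨a, rfl⟩ := QuotientGroup.mk_surjective q
          rw [← QuotientGroup.mk_one, hψ', hψ'] at hq
          exact (QuotientGroup.eq_one_iff a).mpr ((hK a).mpr hq))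
        (S.x : G ⧸ K) hx' (fun h => hsq (h.trans K.card_quotient_dvd_card)) (g₀ : G ⧸ K)
      obtain ⟨k, hk⟩ := mem_zpowers_iff.mp h
      apply hcK
      rw [← QuotientGroup.eq_one_iff, hc]
      simp only [QuotientGroup.mk_mul, QuotientGroup.mk_inv]
      rw [← hk, ((Commute.refl (S.x : G ⧸ K)).zpow_left k).eq]
      group

/-- Brauer's bound. -/
theorem le_two_mul_degree_add_one {G : Type u} [Group G] [Finite G] (p : ℕ) [hp : Fact p.Prime]
    (hdiv : p ∣ Nat.card G) (hsq : ¬ p ^ 2 ∣ Nat.card G)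
    (hnn : ∀ H : Subgroup G, H.Normal → Nat.card H ≠ p) (χ : G → ℂ) (hχ : IsCharacter G χ)
    (hfaith : ∀ g : G, χ g = χ 1 → g = 1) : p ≤ 2 * charDegree χ + 1 := by
  by_contra hlt
  obtain ⟨x, hx⟩ := exists_prime_orderOf_dvd_card' p hdiv
  obtain ⟨n, hn⟩ := Chars.isCharacter_exists_degree hχ
  have hd : charDegree χ = n := by rw [charDegree, hn, Complex.natCast_re, Nat.floor_natCast]
  rw [hd] at hlt
  have h := normalizes_aux p (Nat.card G) G le_rfl χ n hχ hn (by omega) hfaith x hx hsq
  refine hnn (zpowers x) ⟨fun w hw g => ?_⟩ (by rw [Nat.card_zpowers, hx])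
  obtain ⟨k, rfl⟩ := mem_zpowers_iff.mp hw
  rw [← conj_zpow]
  exact zpow_mem (h g) k

end Cfsg.Agent.Lib.DefectOne
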