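/-
The row structure gives the hypothesis of the count.
-/
import Mathlib
import Cfsg.Agent.Lib.DefectOne.CountPPrime
import Cfsg.Agent.Lib.DefectTwist.Structure

set_option autoImplicit false
set_option linter.unusedSectionVars false

namespace Cfsg.Agent.Lib.DefectOne

open Cfsg Cfsg.Agent.Lib Finset Subgroup
open Cfsg.Agent.Lib.DefectTwist (stabExp mem_stabExp kk rsum rsum_modEq card_stabExp_dvd
  one_mem_stabExp ne_zero_of_mem_stabExp card_coset exists_rows)

variable {G : Type*} [Group G] [Fintype G] {p : ℕ} [hp : Fact p.Prime] (S : Local p G)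

noncomputable local instance instFintypeV_DefectOne_StructCount : Fintype S.V := Fintype.ofFinite _

theorem stExp_eq_card (φ : IrrCharacter S.V) : stExp S φ = (stabExp S φ).card := by
  classical
  unfold stExp
  congr 1
  ext u
  simp only [mem_image, mem_filter, mem_nset, mem_stabExp]
  exact ⟨fun ⟨g, ⟨h1, h2⟩, h3⟩ => ⟨g, h1, h3, h2⟩, fun ⟨g, h1, h2, h3⟩ => ⟨g, ⟨h1, h3⟩, h2⟩⟩

theorem structCount (hsq : ¬ p ^ 2 ∣ Nat.card G) : StructCount S := by
  classical
  intro φ
  obtain ⟨A, B, δ, ε, a, hAB, hA, hB, hε, hAk, hBk, hO, -⟩ := exists_rows S hsq φ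
  have hvar : ∀ χ : IrrCharacter G, RowVar S (χ : G → ℂ) φ ↔ ∃ k, kk S φ χ k ≠ 0 := by
    intro χ
    refine exists_congr fun k => ?_
    simp only [kk, ne_eq, sub_eq_zero, Nat.cast_inj]
    exact ⟨Ne.symm, Ne.symm⟩
  have hone : (1 : ZMod p) ≠ 0 := one_ne_zero
  have hset : varSet S φ = A ∪ B := by
    ext χ
    rw [mem_varSet, hvar, mem_union]
    constructor
    · rintro ⟨k, hk⟩
      by_contra h
      push Not at h
      exact hk (hO χ h.1 h.2 k)
    · rintro (h | h)
      · exact ⟨1, by rw [(hAk χ h).2 1 hone]; rcases (hAk χ h).1 with h' | h' <;> omega⟩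
      · refine ⟨a χ, ?_⟩
        rw [(hBk χ h).2 _ (hBk χ h).1, if_pos (by
          rw [mul_inv_cancel₀ (hBk χ h).1]; exact one_mem_stabExp S φ)]
        rcases hε with h' | h' <;> omega
  refine ⟨?_, fun χ hχ => ?_⟩
  · rw [hset, card_union_of_disjoint hAB, hA, hB, stExp_eq_card]
  · have hm := rsum_modEq S φ χ
    show ¬ p ∣ rsum S φ χ
    intro hd
    have h1 : (p : ℤ) ∣ ∑ k ∈ univ.erase (0 : ZMod p), kk S φ χ k := by
      have h0 : (p : ℤ) ∣ (rsum S φ χ : ℤ) := by exact_mod_cast hd
      have h2 := dvd_add (Int.modEq_iff_dvd.mp hm) h0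
      rwa [sub_add_cancel, dvd_neg] at h2
    rw [hset, mem_union] at hχ
    have hp1 := hp.out.one_lt
    rcases hχ with h | h
    · obtain ⟨hδ, hk⟩ := hAk χ h
      rw [sum_congr rfl fun k hk' => hk k (ne_of_mem_erase hk'), sum_const,
        card_erase_of_mem (mem_univ _), card_univ, ZMod.card, nsmul_eq_mul] at h1
      have hp' : Prime (p : ℤ) := Nat.prime_iff_prime_int.mp hp.out
      rcases hp'.dvd_or_dvd h1 with h2 | h2
      · have h3 : p ∣ p - 1 := by exact_mod_cast h2
        have := Nat.le_of_dvd (by omega) h3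
        omega
      · rcases hδ with h' | h' <;> rw [h'] at h2
        · exact hp'.not_dvd_one h2
        · exact hp'.not_dvd_one (dvd_neg.mp h2)
    · obtain ⟨ha, hk⟩ := hBk χ h
      rw [sum_congr rfl fun k hk' => hk k (ne_of_mem_erase hk'), ← sum_filter, sum_const,
        card_coset S φ ha, nsmul_eq_mul] at h1
      have hp' : Prime (p : ℤ) := Nat.prime_iff_prime_int.mp hp.out
      rcases hp'.dvd_or_dvd h1 with h2 | h2
      · have h3 : p ∣ (stabExp S φ).card := by exact_mod_cast h2
        have h4 := Nat.le_of_dvd (by omega) (card_stabExp_dvd S φ)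
        have h5 := Nat.le_of_dvd (card_pos.mpr ⟨1, one_mem_stabExp S φ⟩) h3
        omega
      · rcases hε with h' | h' <;> rw [h'] at h2
        · exact hp'.not_dvd_one h2
        · exact hp'.not_dvd_one (dvd_neg.mp h2)

end Cfsg.Agent.Lib.DefectOne
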